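import Cfsg.Agent.Coprime.Generation
import Cfsg.Agent.Components.Cores
import Cfsg.Agent.Transfer.Basic

/-!
Left normed commutator values and the coprime order condition on their products.
-/

set_option autoImplicit false
set_option linter.style.haveILetI false
set_option linter.unusedSectionVars false

namespace Cfsg.Lib.CommValues

open Subgroup
open scoped commutatorElement

universe u

/-- the values of the left normed commutator word with `k + 1` entries -/
def V (G : Type u) [Group G] : ℕ → Set G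
  | 0 => Set.univ
  | k + 1 => {x | ∃ v ∈ V G k, ∃ g : G, x = ⁅v, g⁆}

variable {G : Type u} [Group G]

theorem conj_mem_V : ∀ {k : ℕ} {x : G}, x ∈ V G k → ∀ g : G, g * x * g⁻¹ ∈ V G k
  | 0, _, _, _ => trivial
  | k + 1, x, hx, g => by
    obtain ⟨v, hv, w, rfl⟩ := hx
    exact ⟨g * v * g⁻¹, conj_mem_V hv g, g * w * g⁻¹, conjugate_commutatorElement v w g⟩

theorem V_succ_subset : ∀ k : ℕ, V G (k + 1) ⊆ V G k
  | 0 => fun _ _ => trivial
  | k + 1 => by
    rintro _ ⟨v, hv, g, rfl⟩
    exact ⟨v, V_succ_subset k hv, g, rfl⟩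

theorem V_anti {j k : ℕ} (h : j ≤ k) : V G k ⊆ V G j := by
  induction k, h using Nat.le_induction with
  | base => exact le_rfl
  | succ k _ ih => exact (V_succ_subset k).trans ih

theorem map_mem_V {H : Type*} [Group H] (f : G →* H) : ∀ {k : ℕ} {x : G}, x ∈ V G k → f x ∈ V H k
  | 0, _, _ => trivial
  | k + 1, _, hx => by
    obtain ⟨v, hv, g, rfl⟩ := hx
    exact ⟨f v, map_mem_V f hv, f g, map_commutatorElement f v g⟩

theorem lift_V {H : Type*} [Group H] (f : G →* H) (hf : Function.Surjective f) :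
    ∀ {k : ℕ} {y : H}, y ∈ V H k → ∃ x ∈ V G k, f x = y
  | 0, y, _ => ⟨(hf y).choose, trivial, (hf y).choose_spec⟩
  | k + 1, _, hy => by
    obtain ⟨w, hw, h, rfl⟩ := hy
    obtain ⟨v, hv, rfl⟩ := lift_V f hf hw
    obtain ⟨g, rfl⟩ := hf h
    exact ⟨⁅v, g⁆, ⟨v, hv, g, rfl⟩, map_commutatorElement f v g⟩

theorem V_subset_lower : ∀ k : ℕ, V G k ⊆ ((⊤ : Subgroup G).lowerCentralSeries k : Set G)
  | 0 => fun x _ => mem_top x
  | k + 1 => by
    rintro _ ⟨v, hv, g, rfl⟩
    exact commutator_mem_commutator (V_subset_lower k hv) (mem_top g)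

theorem lower_le_normalClosure : ∀ k : ℕ,
    (⊤ : Subgroup G).lowerCentralSeries k ≤ normalClosure (V G k)
  | 0 => fun x _ => subset_normalClosure trivial
  | k + 1 => by
    set N := normalClosure (V G (k + 1))
    rw [Subgroup.lowerCentralSeries_succ, commutator_le]
    intro a ha g _
    let C : Subgroup G := (center (G ⧸ N)).comap (QuotientGroup.mk' N)
    have hle : normalClosure (V G k) ≤ C := by
      refine normalClosure_le_normal fun v hv => ?_
      show (QuotientGroup.mk' N) v ∈ center (G ⧸ N)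
      refine Subgroup.mem_center_iff.mpr fun q => ?_
      obtain ⟨h, rfl⟩ := QuotientGroup.mk'_surjective N q
      refine (commutatorElement_eq_one_iff_mul_comm.mp ?_).symm
      rw [← map_commutatorElement, QuotientGroup.mk'_apply, QuotientGroup.eq_one_iff]
      exact subset_normalClosure ⟨v, hv, h, rfl⟩
    have hc : (QuotientGroup.mk' N) a ∈ center (G ⧸ N) := hle (lower_le_normalClosure k ha)
    rw [← QuotientGroup.eq_one_iff, ← QuotientGroup.mk'_apply, map_commutatorElement]
    exact commutatorElement_eq_one_iff_mul_comm.mpr (Subgroup.mem_center_iff.mp hc _).symm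

/-- repeated commutation with `a` -/
def it (a r : G) : ℕ → G
  | 0 => r
  | n + 1 => ⁅it a r n, a⁆

theorem it_succ' (a r : G) : ∀ n : ℕ, it a r (n + 1) = it a ⁅r, a⁆ n
  | 0 => rfl
  | n + 1 => congrArg (fun c => ⁅c, a⁆) (it_succ' a r n)

theorem it_mem_V (a r : G) : ∀ n : ℕ, it a r n ∈ V G n
  | 0 => trivial
  | n + 1 => ⟨it a r n, it_mem_V a r n, a, rfl⟩

theorem map_it {H : Type*} [Group H] (f : G →* H) (a r : G) :
    ∀ n : ℕ, f (it a r n) = it (f a) (f r) n
  | 0 => rfl
  | n + 1 => by rw [it, it, map_commutatorElement, map_it f a r n]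

theorem commutator_mem_of_normalizer {P : Subgroup G} {a r : G}
    (ha : a ∈ normalizer (P : Set G)) (hr : r ∈ P) : ⁅r, a⁆ ∈ P := by
  rw [commutatorElement_def, mul_assoc, mul_assoc, ← mul_assoc a]
  exact mul_mem hr ((mem_normalizer_iff.mp ha _).mp (inv_mem hr))

theorem it_mem {P : Subgroup G} {a r : G} (ha : a ∈ normalizer (P : Set G)) (hr : r ∈ P) :
    ∀ n : ℕ, it a r n ∈ P
  | 0 => hr
  | n + 1 => commutator_mem_of_normalizer ha (it_mem ha hr n)

theorem orderOf_coprime_of_mem [Finite G] {p : ℕ} [hp : Fact p.Prime] {P : Subgroup G} (hP : IsPGroup p P)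
    {x : G} (hx : x ∈ P) {n : ℕ} (hn : ¬ p ∣ n) : (orderOf x).Coprime n := by
  obtain ⟨i, hi⟩ := IsPGroup.iff_orderOf.mp hP ⟨x, hx⟩
  rw [orderOf_mk] at hi
  rw [hi]
  exact ((hp.out.coprime_iff_not_dvd).mpr hn).pow_left i

theorem not_dvd_of_isPGroup [Finite G] {p q : ℕ} [hp : Fact p.Prime] [hq : Fact q.Prime] (hpq : p ≠ q)
    {x : G} (hx : IsPGroup q (zpowers x)) : ¬ p ∣ orderOf x := by
  obtain ⟨j, hj⟩ := IsPGroup.iff_orderOf.mp hx ⟨x, mem_zpowers x⟩
  rw [orderOf_mk] at hj
  rw [hj]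
  exact fun h => hpq ((Nat.prime_dvd_prime_iff_eq hp.out hq.out).mp (hp.out.dvd_of_dvd_pow h))

/-- A coprime element acting nilpotently on a `p`-group acts trivially. -/
theorem commute_of_it [Finite G] {p : ℕ} [Fact p.Prime] {P : Subgroup G} (hP : IsPGroup p P) {a : G}
    (ha : a ∈ normalizer (P : Set G)) (hpa : ¬ p ∣ orderOf a) :
    ∀ {n : ℕ} {r : G}, r ∈ P → it a r n = 1 → Commute r a := by
  intro n
  induction n with
  | zero => intro r _ h; rw [show r = 1 from h]; exact Commute.one_left a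
  | succ n ih =>
    intro r hr h
    rw [it_succ'] at h
    have hc : ⁅r, a⁆ ∈ P := commutator_mem_of_normalizer ha hr
    have hca : Commute ⁅r, a⁆ a := ih hc h
    have h1 := hca.orderOf_mul_eq_mul_orderOf_of_coprime (orderOf_coprime_of_mem hP hc hpa)
    have e : ⁅r, a⁆ * a = MulAut.conj r a := by
      rw [commutatorElement_def, MulAut.conj_apply]; group
    rw [e, MulEquiv.orderOf_eq] at h1
    have h2 : orderOf ⁅r, a⁆ = 1 :=
      (Nat.eq_of_mul_eq_mul_right (orderOf_pos a) (by rw [one_mul]; exact h1.symm))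
    exact commutatorElement_eq_one_iff_mul_comm.mp (orderOf_eq_one_iff.mp h2)

/-- The condition of the criterion. -/
def Crit (G : Type u) [Group G] (k : ℕ) : Prop :=
  ∀ x ∈ V G k, ∀ y ∈ V G k, (orderOf x).Coprime (orderOf y) →
    (∀ r : ℕ, r.Prime → r ∣ orderOf x * orderOf y → r ∣ orderOf (x * y)) ∨
      orderOf x * orderOf y ≤ orderOf (x * y)

theorem Crit.subgroup {k : ℕ} (h : Crit G k) (H : Subgroup G) : Crit H k := by
  intro x hx y hy hco
  have e : ((x * y : H) : G) = (x : G) * (y : G) := rfl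
  have := h x (map_mem_V H.subtype hx) y (map_mem_V H.subtype hy) (by simpa using hco)
  rwa [← e, orderOf_coe, orderOf_coe, orderOf_coe] at this

/-- A value of order prime to `p` centralises every `p`-subgroup it normalises. -/
theorem Crit.centralizes [Finite G] {k : ℕ} (h : Crit G k) {p : ℕ} [hp : Fact p.Prime] {P : Subgroup G}
    (hP : IsPGroup p P) {a : G} (haV : a ∈ V G k) (hpa : ¬ p ∣ orderOf a)
    (ha : a ∈ normalizer (P : Set G)) : a ∈ centralizer (P : Set G) := by
  intro r hr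
  refine (commute_of_it hP ha hpa (n := k + 1) hr ?_).eq
  set v := it a r (k + 1) with hv
  have hvP : v ∈ P := it_mem ha hr _
  have e : v * a = MulAut.conj (it a r k) a := by
    rw [hv, it, commutatorElement_def, MulAut.conj_apply]; group
  have ho : orderOf (v * a) = orderOf a := by rw [e, MulEquiv.orderOf_eq]
  rw [← orderOf_eq_one_iff]
  rcases h v (V_succ_subset k (it_mem_V a r (k + 1))) a haV (orderOf_coprime_of_mem hP hvP hpa) with
    h1 | h1
  · rw [ho] at h1
    by_contra hne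
    obtain ⟨s, hs, hsd⟩ := Nat.exists_prime_and_dvd hne
    obtain ⟨i, hi⟩ := IsPGroup.iff_orderOf.mp hP ⟨v, hvP⟩
    rw [orderOf_mk] at hi
    have hsp : s = p := (Nat.prime_dvd_prime_iff_eq hs hp.out).mp (hs.dvd_of_dvd_pow (hi ▸ hsd))
    exact hpa (hsp ▸ h1 s hs (hsd.mul_right _))
  · rw [ho] at h1
    have := orderOf_pos v
    have := orderOf_pos a
    nlinarith

/-- A set of prime power order elements behaving like the values in a group with the condition. -/
structure Good {G : Type u} [Group G] (k : ℕ) (A : Set G) : Prop where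
  cent : ∀ v ∈ A, ∀ (p q : ℕ) [Fact p.Prime] [Fact q.Prime], p ≠ q → IsPGroup q (zpowers v) →
    ∀ P : Subgroup G, IsPGroup p P → v ∈ normalizer (P : Set G) → v ∈ centralizer (P : Set G)
  it_mem : ∀ (q : ℕ) [Fact q.Prime] (Q : Subgroup G), IsPGroup q Q → ∀ u ∈ Q,
    ∀ g ∈ normalizer (Q : Set G), it g u k ∈ A
  comm_mem : ∀ (q : ℕ) [Fact q.Prime] (Q : Subgroup G), IsPGroup q Q → ∀ v ∈ A, v ∈ Q →
    ∀ w ∈ Q, ⁅v, w⁆ ∈ A
  conj_mem : ∀ v ∈ A, ∀ g : G, g * v * g⁻¹ ∈ A

theorem zpowers_isPGroup {q : ℕ} {Q : Subgroup G} (hQ : IsPGroup q Q) {x : G} (hx : x ∈ Q) :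
    IsPGroup q (zpowers x) := hQ.to_le (zpowers_le.mpr hx)

theorem conj_isPGroup {q : ℕ} {x : G} (hx : IsPGroup q (zpowers x)) (g : G) :
    IsPGroup q (zpowers (g * x * g⁻¹)) := by
  have := hx.map (MulAut.conj g).toMonoidHom
  rwa [MonoidHom.map_zpowers] at this

/-- the values of prime power order -/
def PV (G : Type u) [Group G] (k : ℕ) : Set G :=
  {x | (∃ q : ℕ, q.Prime ∧ IsPGroup q (zpowers x)) ∧ x ∈ V G k}

theorem Crit.good [Finite G] {k : ℕ} (h : Crit G k) : Good k (PV G k) where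
  cent v hv p q _ _ hpq hq P hP hn := h.centralizes hP hv.2 (not_dvd_of_isPGroup hpq hq) hn
  it_mem q hq Q hQ u hu g hg :=
    ⟨⟨q, hq.out, zpowers_isPGroup hQ (it_mem hg hu k)⟩, it_mem_V g u k⟩
  comm_mem q hq Q hQ v hv hvQ w hw :=
    ⟨⟨q, hq.out, zpowers_isPGroup hQ (commutator_mem_of_normalizer (Subgroup.le_normalizer hw) hvQ)⟩,
      V_succ_subset k ⟨v, hv.2, w, rfl⟩⟩
  conj_mem v hv g := ⟨hv.1.imp fun q hq => ⟨hq.1, conj_isPGroup hq.2 g⟩, conj_mem_V hv.2 g⟩

theorem map_mem_normalizer {H : Type*} [Group H] (f : G →* H) {P : Subgroup G} {g : G}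
    (hg : g ∈ normalizer (P : Set G)) : f g ∈ normalizer ((P.map f : Subgroup H) : Set H) :=
  le_normalizer_map f (mem_map_of_mem f hg)

theorem Good.subgroup {k : ℕ} {A : Set G} (h : Good k A) (H : Subgroup G) :
    Good k ((↑) ⁻¹' A : Set H) where
  cent v hv p q _ _ hpq hq P hP hn := by
    intro r hr
    refine Subtype.ext ?_
    exact h.cent (v : G) hv p q hpq (by
        have := hq.map H.subtype
        rwa [MonoidHom.map_zpowers] at this) (P.map H.subtype) (hP.map H.subtype)
      (map_mem_normalizer H.subtype hn) (r : G) (mem_map_of_mem H.subtype hr)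
  it_mem q _ Q hQ u hu g hg := by
    show H.subtype (it g u k) ∈ A
    rw [map_it]
    exact h.it_mem q (Q.map H.subtype) (hQ.map H.subtype) _ (mem_map_of_mem H.subtype hu) _
      (map_mem_normalizer H.subtype hg)
  comm_mem q _ Q hQ v hv hvQ w hw := by
    show H.subtype ⁅v, w⁆ ∈ A
    rw [map_commutatorElement]
    exact h.comm_mem q (Q.map H.subtype) (hQ.map H.subtype) _ hv (mem_map_of_mem H.subtype hvQ) _
      (mem_map_of_mem H.subtype hw)
  conj_mem v hv g := h.conj_mem _ hv _

/-- The bridge to the formulation with lists of entries. -/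
theorem mem_V_iff_fold (k : ℕ) (x : G) :
    x ∈ V G k ↔ ∃ f : Fin (k + 1) → G,
      x = ((List.ofFn f).tail).foldl (fun a b => a * b * a⁻¹ * b⁻¹) (f 0) := by
  constructor
  · intro hx
    suffices h : ∀ (n : ℕ) (y : G), y ∈ V G n → ∃ (a : G) (l : List G), l.length = n ∧
        y = l.foldl (fun a b => a * b * a⁻¹ * b⁻¹) a by
      obtain ⟨a, l, rfl, rfl⟩ := h k x hx
      refine ⟨Fin.cons a l.get, ?_⟩
      rw [List.ofFn_succ]
      simp only [Fin.cons_zero, Fin.cons_succ, List.tail_cons, List.ofFn_get]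
    intro n
    induction n with
    | zero => exact fun y _ => ⟨y, [], rfl, rfl⟩
    | succ n ih =>
      rintro y ⟨v, hv, g, rfl⟩
      obtain ⟨a, l, hl, rfl⟩ := ih v hv
      exact ⟨a, l ++ [g], by simp [hl], by simp [List.foldl_append, commutatorElement_def]⟩
  · rintro ⟨f, rfl⟩
    suffices h : ∀ (l : List G) (j : ℕ) (a : G), a ∈ V G j →
        l.foldl (fun a b => a * b * a⁻¹ * b⁻¹) a ∈ V G (j + l.length) by
      have := h (List.ofFn f).tail 0 (f 0) trivial
      simpa using this
    intro l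
    induction l with
    | nil => exact fun j a ha => ha
    | cons b l ih =>
      intro j a ha
      have := ih (j + 1) (a * b * a⁻¹ * b⁻¹) ⟨a, ha, b, (commutatorElement_def a b).symm⟩
      rw [List.foldl_cons, List.length_cons]
      rwa [show j + (l.length + 1) = j + 1 + l.length by omega]

end Cfsg.Lib.CommValues
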