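import Cfsg.Agent.CommValues.Homes

/-!
Two maximal subgroups whose kernels contain commuting elements cannot exist: a count of conjugates.
-/

set_option autoImplicit false
set_option linter.style.haveILetI false
set_option linter.unusedSectionVars false
set_option linter.unusedVariables false

namespace Cfsg.Lib.CommValues

open Subgroup
open scoped commutatorElement Pointwise Classical

universe u

variable {S : Type u} [Group S] [Finite S] {k : ℕ} {A : Set S}

/-- all conjugates of members of a set -/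
def conjOf (X : Set S) : Set S := {y | ∃ g : S, ∃ x ∈ X, g * x * g⁻¹ = y}

/-- counting conjugates of a trivial intersection set -/
theorem card_conjOf (H : Subgroup S) (X : Set S) (hinv : ∀ h ∈ H, ∀ x ∈ X, h * x * h⁻¹ ∈ X)
    (hTI : ∀ x ∈ X, ∀ g : S, g * x * g⁻¹ ∈ X → g ∈ H) :
    Nat.card (conjOf X) * Nat.card H = Nat.card S * Nat.card X := by
  rw [← Nat.card_prod, ← Nat.card_prod]
  refine Nat.card_congr (Equiv.symm ?_)
  choose gc xc hx hgx using fun c : conjOf X => c.2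
  refine
    { toFun := fun gx => ⟨⟨gx.1 * gx.2 * gx.1⁻¹, gx.1, gx.2, gx.2.2, rfl⟩,
        ⟨(gc ⟨gx.1 * gx.2 * gx.1⁻¹, gx.1, gx.2, gx.2.2, rfl⟩)⁻¹ * gx.1, ?_⟩⟩
      invFun := fun ch => (gc ch.1 * (ch.2 : S), ⟨(ch.2 : S)⁻¹ * xc ch.1 * (ch.2 : S),
        by simpa using hinv (ch.2 : S)⁻¹ (inv_mem ch.2.2) _ (hx ch.1)⟩)
      left_inv := ?_
      right_inv := ?_ }
  · set c : conjOf X := ⟨gx.1 * gx.2 * gx.1⁻¹, gx.1, gx.2, gx.2.2, rfl⟩ with hc
    refine hTI gx.2 gx.2.2 _ ?_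
    have e : gc c * xc c * (gc c)⁻¹ = gx.1 * gx.2 * gx.1⁻¹ := hgx c
    rw [show (gc c)⁻¹ * gx.1 * gx.2 * ((gc c)⁻¹ * gx.1)⁻¹ = (gc c)⁻¹ * (gx.1 * gx.2 * gx.1⁻¹) * gc c by group,
      ← e, show (gc c)⁻¹ * (gc c * xc c * (gc c)⁻¹) * gc c = xc c by group]
    exact hx c
  · rintro ⟨g, x⟩
    set c : conjOf X := ⟨g * x * g⁻¹, g, x, x.2, rfl⟩ with hc
    have e : gc c * xc c * (gc c)⁻¹ = g * x * g⁻¹ := hgx c
    refine Prod.ext (by show gc c * ((gc c)⁻¹ * g) = g; group) (Subtype.ext ?_)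
    show ((gc c)⁻¹ * g)⁻¹ * xc c * ((gc c)⁻¹ * g) = x
    calc _ = g⁻¹ * (gc c * xc c * (gc c)⁻¹) * g := by group
      _ = _ := by rw [e]; group
  · rintro ⟨c, hh⟩
    have e : gc c * (hh : S) * ((hh : S)⁻¹ * xc c * (hh : S)) * (gc c * (hh : S))⁻¹ = c := by
      calc _ = gc c * xc c * (gc c)⁻¹ := by group
        _ = _ := hgx c
    refine Prod.ext (Subtype.ext e) (Subtype.ext ?_)
    have key : ∀ c' : conjOf X, c' = c → (gc c')⁻¹ * (gc c * (hh : S)) = hh := by
      rintro _ rfl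
      group
    exact key _ (Subtype.ext e)

theorem ncard_biUnion_finset {ι α : Type*} [Finite α] {J : Finset ι} {f : ι → Set α}
    (h : (J : Set ι).PairwiseDisjoint f) : (⋃ i ∈ J, f i).ncard = ∑ i ∈ J, (f i).ncard := by
  have := Set.Finite.ncard_biUnion J.finite_toSet (fun i _ => Set.toFinite (f i)) h
  rw [finsum_mem_coe_finset] at this
  exact this

theorem arith_step {a m k w wM g : ℕ} (h1 : a * m = g * (k - 1)) (h2 : m * wM = k * w) (h3 : 2 * wM ≤ k)
    (hwM : 1 ≤ wM) : 2 * g * wM ≤ 2 * w * a + g := by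
  obtain ⟨j, rfl⟩ : ∃ j, k = j + 1 := ⟨k - 1, by omega⟩
  rw [Nat.add_sub_cancel] at h1
  refine Nat.le_of_mul_le_mul_left ?_ (Nat.succ_pos j)
  rw [Nat.succ_eq_add_one]
  have h4 : (j + 1) * w * a = g * j * wM := by rw [← h2, ← h1]; ring
  have h5 : g * (2 * wM) ≤ g * (j + 1) := Nat.mul_le_mul_left g h3
  nlinarith

namespace Setting

theorem count_contra (h : Setting S k A) {L N : Subgroup S} (hne : L ≠ N) {c t : S} {p q : ℕ}
    [Fact p.Prime] [Fact q.Prime] (hcp : IsPGroup p (zpowers c)) (htq : IsPGroup q (zpowers t))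
    (hc : Home c L) (ht : Home t N) (hcN : c ∈ N) (htL : t ∈ L) : False := by
  haveI : Fintype S := Fintype.ofFinite S
  haveI : Fintype (Subgroup S) := Fintype.ofFinite _
  obtain ⟨hLc, hcL, -, -⟩ := h.home_prop hc
  obtain ⟨hNc, htN, -, -⟩ := h.home_prop ht
  set W : Subgroup S := L ⊓ N with hWdef
  have hWn : Group.IsNilpotent W := h.inter_nilpotent hLc hNc hne
  have hcW : c ∈ W := ⟨hcL, hcN⟩
  have htW : t ∈ W := ⟨htL, htN⟩
  let J : Finset (Subgroup S) := Finset.univ.filter fun M =>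
    ∃ u ∈ W, ∃ r : ℕ, r.Prime ∧ IsPGroup r (zpowers u) ∧ Home u M
  have hJmem : ∀ {M : Subgroup S}, M ∈ J ↔ ∃ u ∈ W, ∃ r : ℕ, r.Prime ∧ IsPGroup r (zpowers u) ∧ Home u M :=
    fun {M} => by simp [J]
  have hJco : ∀ M ∈ J, IsCoatom M ∧ W ≤ M := fun M hM => by
    obtain ⟨u, hu, r, hr, hur, hhome⟩ := hJmem.mp hM
    haveI := Fact.mk hr
    exact ⟨(h.home_prop hhome).1, h.nilpotent_le_home hWn hu hur hhome⟩
  have hpair : ∀ M ∈ J, ∀ M' ∈ J, M ≠ M' → M ⊓ M' = W := fun M hM M' hM' hne' => by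
    refine le_antisymm ?_ (le_inf (hJco M hM).2 (hJco M' hM').2)
    have hn := h.inter_nilpotent (hJco M hM).1 (hJco M' hM').1 hne'
    have hW' : W ≤ M ⊓ M' := le_inf (hJco M hM).2 (hJco M' hM').2
    exact le_inf (h.nilpotent_le_home hn (hW' hcW) hcp hc) (h.nilpotent_le_home hn (hW' htW) htq ht)
  have hLJ : L ∈ J := hJmem.mpr ⟨c, hcW, p, Fact.out, hcp, hc⟩
  have hNJ : N ∈ J := hJmem.mpr ⟨t, htW, q, Fact.out, htq, ht⟩
  have hother : ∀ M ∈ J, ∃ M' ∈ J, M' ≠ M := fun M _ => by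
    by_cases e : L = M
    · exact ⟨N, hNJ, fun e' => hne (e.trans e'.symm)⟩
    · exact ⟨L, hLJ, e⟩
  have hconjJ : ∀ M ∈ J, ∀ g : S, M.map (MulAut.conj g).toMonoidHom ∈ J →
      M.map (MulAut.conj g).toMonoidHom = M := by
    intro M hM g hM'
    obtain ⟨u, hu, r, hr, hur, hhome⟩ := hJmem.mp hM'
    haveI := Fact.mk hr
    have h1 := h.home_conj hhome g⁻¹
    rw [Cfsg.Lib.Transfer.map_conj_map_conj, inv_mul_cancel, Cfsg.Lib.Transfer.map_conj_one] at h1
    exact h.home_unique hhome (h.home_of_mem h1 (conj_isPGroup hur g⁻¹) ((hJco M hM).2 hu) hhome.1 hur)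
  -- `M = K M * W`
  have hindex : ∀ M ∈ J, Nat.card M * Nat.card ↥(K M ⊓ W) = Nat.card (K M) * Nat.card W ∧
      2 * Nat.card ↥(K M ⊓ W) ≤ Nat.card (K M) := by
    intro M hM
    obtain ⟨M', hM', hne'⟩ := hother M hM
    obtain ⟨u, hu, r, hr, hur, hhome⟩ := hJmem.mp hM'
    haveI := Fact.mk hr
    obtain ⟨hu1, r', hr', P, hP, rfl⟩ := hhome
    obtain rfl := prime_eq hu1 hur (zpowers_isPGroup P.2 hP)
    set M' := normalizer ((P : Subgroup S) : Set S)
    haveI := h.psol M (hJco M hM).1.1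
    haveI := ((h.good.subgroup M).solvable_structure).1
    set f := QuotientGroup.mk' (Cfsg.fittingSubgroup M)
    have hfs : Function.Surjective f := QuotientGroup.mk'_surjective _
    let PM : Sylow r M := { toSubgroup := (P : Subgroup S).subgroupOf M
                            isPGroup' := P.2.comap_subtype
                            is_maximal' := by
                              intro R hR hle
                              refine le_antisymm (fun x hx => ?_) hle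
                              obtain ⟨Q, hQ⟩ := (hR.map M.subtype).exists_le_sylow
                              have huQ : u ∈ (Q : Subgroup S) :=
                                hQ ⟨⟨u, (hJco M hM).2 hu⟩, hle hP, rfl⟩
                              rw [h.sylow_eq hu1 Q P huQ hP] at hQ
                              exact hQ ⟨x, hx, rfl⟩ }
    set E : Subgroup M := ((PM : Subgroup M).map f).comap f with hE
    have hn : (PM.mapSurjective hfs).toSubgroup.Normal :=
      inferInstance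
    rw [Sylow.coe_mapSurjective] at hn
    haveI := hn
    haveI : E.Normal := inferInstance
    have hPE : (PM : Subgroup M) ≤ E := le_comap_map f _
    have h1 : normalizer ((PM : Subgroup M) : Set M) ⊔ E = ⊤ := Sylow.normalizer_sup_eq_top' PM hPE
    have h2 := congrArg (Subgroup.map f) h1
    rw [Subgroup.map_sup, map_top_of_surjective f hfs, hE, map_comap_eq_self_of_surjective hfs,
      sup_eq_left.mpr (map_mono le_normalizer)] at h2
    have hNM' : ∀ x : M, x ∈ normalizer ((PM : Subgroup M) : Set M) → (x : S) ∈ W := fun x hx => by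
      rw [← hpair M hM M' hM' (Ne.symm hne')]
      refine ⟨x.2, ?_⟩
      have h3 : x * ⟨u, (hJco M hM).2 hu⟩ * x⁻¹ ∈ (PM : Subgroup M) := (mem_normalizer_iff.mp hx _).mp hP
      exact (h.sylow_normalizer ((dvd_of_mem P.2 hP hu1).trans (orderOf_dvd_natCard u)) P).2.2.1 u hP hu1 x h3
    let fW : W →* M ⧸ Cfsg.fittingSubgroup M := f.comp (inclusion (hJco M hM).2)
    have hsurj : Function.Surjective fW := fun z => by
      obtain ⟨x, hx, rfl⟩ := h2.ge (mem_top z)
      exact ⟨⟨x, hNM' x hx⟩, rfl⟩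
    have hker : Nat.card fW.ker = Nat.card ↥(K M ⊓ W) := by
      refine Nat.card_congr
        { toFun := fun x => ⟨((x : W) : S), ⟨_, (QuotientGroup.eq_one_iff _).mp x.2, rfl⟩, (x : W).2⟩
          invFun := fun x => ⟨⟨(x : S), x.2.2⟩, ?_⟩
          left_inv := fun x => rfl
          right_inv := fun x => rfl }
      obtain ⟨y, hy, hyx⟩ := x.2.1
      rw [MonoidHom.mem_ker]
      refine (QuotientGroup.eq_one_iff _).mpr ?_
      rw [show inclusion (hJco M hM).2 ⟨(x : S), x.2.2⟩ = y from Subtype.ext hyx.symm]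
      exact hy
    have hW : Nat.card W = Nat.card (M ⧸ Cfsg.fittingSubgroup M) * Nat.card fW.ker := by
      rw [Subgroup.card_eq_card_quotient_mul_card_subgroup fW.ker,
        Nat.card_congr (QuotientGroup.quotientKerEquivOfSurjective fW hsurj).toEquiv]
    have hMc := Subgroup.card_eq_card_quotient_mul_card_subgroup (Cfsg.fittingSubgroup M)
    have hK : Nat.card (K M) = Nat.card (Cfsg.fittingSubgroup M) :=
      card_map_of_injective M.subtype_injective
    refine ⟨by rw [hW, hMc, hK, hker]; ring, ?_⟩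
    have hlt : Nat.card ↥(K M ⊓ W) ≠ Nat.card (K M) := by
      intro e
      have hKW : K M ≤ W := by
        have := Subgroup.eq_of_le_of_card_ge (inf_le_left : K M ⊓ W ≤ K M) e.ge
        exact this ▸ inf_le_right
      have hMW : M ≤ W := by
        intro x hx
        obtain ⟨w, hw⟩ := hsurj (f ⟨x, hx⟩)
        have : (inclusion (hJco M hM).2 w)⁻¹ * ⟨x, hx⟩ ∈ Cfsg.fittingSubgroup M :=
          (QuotientGroup.eq (s := Cfsg.fittingSubgroup M)).mp hw
        have h4 : (w : S)⁻¹ * x ∈ W := hKW ⟨_, this, rfl⟩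
        simpa using mul_mem w.2 h4
      have hle : M ≤ M' := hMW.trans (hJco M' hM').2
      rcases eq_or_lt_of_le hle with e' | e'
      · exact hne' e'.symm
      · exact (hJco M' hM').1.1 ((hJco M hM).1.2 _ e')
    obtain ⟨d, hd⟩ := card_dvd_of_le (inf_le_left : K M ⊓ W ≤ K M)
    have hd2 : 2 ≤ d := by
      rcases d with _ | _ | d
      · rw [mul_zero] at hd; exact absurd hd (Nat.card_pos (α := K M)).ne'
      · rw [Nat.zero_add, mul_one] at hd; exact absurd hd.symm hlt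
      · omega
    rw [hd, mul_comm 2]
    exact Nat.mul_le_mul_left _ hd2
  -- the mixed elements
  set X : Set S := {x | x ∈ W ∧ x ≠ 1 ∧ ∀ M ∈ J, x ∉ K M} with hX
  have htwo : ∀ x ∈ X, ∃ L₁ ∈ J, ∃ L₂ ∈ J, L₁ ≠ L₂ ∧ ∃ y₁ ∈ zpowers x, ∃ y₂ ∈ zpowers x,
      Home y₁ L₁ ∧ Home y₂ L₂ := by
    intro x hx
    obtain ⟨y₁, hy₁, hy11, r, hr, hyr⟩ := exists_prime_power_mem hx.2.1
    haveI := Fact.mk hr
    obtain ⟨L₁, hL₁⟩ := h.home_exists hy11 hyr
    have hyW : ∀ y ∈ zpowers x, y ∈ W := fun y hy => zpowers_le.mpr hx.1 hy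
    have hL₁J : L₁ ∈ J := hJmem.mpr ⟨y₁, hyW _ hy₁, r, hr, hyr, hL₁⟩
    by_contra hno
    push Not at hno
    refine hx.2.2 L₁ hL₁J ?_
    have hle : zpowers x ≤ K L₁ := by
      refine le_of_prime_powers fun s hs y hy hys => ?_
      by_cases hy1 : y = 1
      · subst hy1; exact one_mem _
      obtain ⟨L₂, hL₂⟩ := h.home_exists hy1 hys
      have : L₁ = L₂ := by
        by_contra hne'
        exact hno L₁ hL₁J L₂ (hJmem.mpr ⟨y, hyW _ hy, s, Fact.out, hys, hL₂⟩) hne' y₁ hy₁ y hy hL₁ hL₂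
      exact (h.home_prop (this ▸ hL₂)).2.2.2
    exact hle (mem_zpowers x)
  have hXTI : ∀ x ∈ X, ∀ g : S, g * x * g⁻¹ ∈ X → g ∈ W := by
    intro x hx g hgx
    obtain ⟨L₁, hL₁, L₂, hL₂, hne₁₂, y₁, hy₁, y₂, hy₂, h₁, h₂⟩ := htwo x hx
    have key : ∀ M ∈ J, ∀ y ∈ zpowers x, Home y M → g ∈ M := by
      intro M hM y hy hyM
      obtain ⟨hy1, r, hr, P, hP, hPe⟩ := hyM
      have hyW' : g * y * g⁻¹ ∈ W := by
        obtain ⟨m, rfl⟩ := mem_zpowers_iff.mp hy
        rw [← conj_zpow]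
        exact zpow_mem hgx.1 m
      have hyr : IsPGroup r (zpowers y) := zpowers_isPGroup P.2 hP
      have hy' : Home y M := ⟨hy1, r, hr, P, hP, hPe⟩
      refine h.self_normalizing (hJco M hM).1 (fun e => hy1 ?_) (hconjJ M hM g
        (hJmem.mpr ⟨_, hyW', r, hr.out, conj_isPGroup hyr g, h.home_conj hy' g⟩))
      have := (h.home_prop hy').2.1
      rw [e] at this
      exact mem_bot.mp this
    rw [← hpair L₁ hL₁ L₂ hL₂ hne₁₂]
    exact ⟨key L₁ hL₁ y₁ hy₁ h₁, key L₂ hL₂ y₂ hy₂ h₂⟩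
  have hXinv : ∀ w ∈ W, ∀ x ∈ X, w * x * w⁻¹ ∈ X := by
    intro w hw x hx
    refine ⟨mul_mem (mul_mem hw hx.1) (inv_mem hw), mt conj_eq_one_iff.mp hx.2.1, fun M hM hxM => ?_⟩
    refine hx.2.2 M hM ?_
    have := conj_mem_K (inv_mem ((hJco M hM).2 hw)) hxM
    rwa [show w⁻¹ * (w * x * w⁻¹) * w⁻¹⁻¹ = x by group] at this
  -- the cardinalities
  let a : Subgroup S → ℕ := fun M => Nat.card (conjOf ((K M : Set S) \ {1}))
  have hdiff : ∀ H : Subgroup S, Nat.card ↥((H : Set S) \ {1}) = Nat.card H - 1 := fun H => by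
    rw [Nat.card_coe_set_eq, Set.ncard_diff_singleton_of_mem (one_mem H)]
    rfl
  have ha : ∀ M ∈ J, a M * Nat.card M = Nat.card S * (Nat.card (K M) - 1) := by
    intro M hM
    rw [← hdiff]
    exact card_conjOf M _ (fun m hm x hx => ⟨conj_mem_K hm hx.1, fun e => hx.2 (conj_eq_one_iff.mp e)⟩)
      (fun x hx g hg => h.K_TI (hJco M hM).1 hx.1 hx.2 hg.1)
  have hb := card_conjOf W X hXinv hXTI
  -- disjointness in the whole group
  have hdis₁ : ∀ M ∈ J, ∀ M' ∈ J, M ≠ M' →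
      Disjoint (conjOf ((K M : Set S) \ {1})) (conjOf ((K M' : Set S) \ {1})) := by
    intro M hM M' hM' hne'
    rw [Set.disjoint_left]
    rintro _ ⟨g, x, hx, rfl⟩ ⟨g', x', hx', he⟩
    obtain ⟨y, hy, hy1, r, hr, hyr⟩ := exists_prime_power_mem (x := x) hx.2
    haveI := Fact.mk hr
    have h1 := h.K_home (hJco M hM).1 (zpowers_le.mpr hx.1 hy) hy1 hyr
    set g₀ := g'⁻¹ * g
    have hx₀ : g₀ * x * g₀⁻¹ = x' := by
      calc g₀ * x * g₀⁻¹ = g'⁻¹ * (g * x * g⁻¹) * g' := by simp only [g₀]; group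
        _ = _ := by rw [← he]; group
    have hy' : g₀ * y * g₀⁻¹ ∈ K M' := by
      obtain ⟨m, rfl⟩ := mem_zpowers_iff.mp hy
      rw [← conj_zpow, hx₀]
      exact zpow_mem hx'.1 m
    have e := h.home_unique (h.home_conj h1 g₀)
      (h.K_home (hJco M' hM').1 hy' (mt conj_eq_one_iff.mp hy1) (conj_isPGroup hyr g₀))
    exact hne' ((hconjJ M hM g₀ (e ▸ hM')).symm.trans e)
  have hdis₂ : ∀ M ∈ J, Disjoint (conjOf ((K M : Set S) \ {1})) (conjOf X) := by
    intro M hM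
    rw [Set.disjoint_left]
    rintro _ ⟨g, x, hx, rfl⟩ ⟨g', x', hx', he⟩
    obtain ⟨L₁, -, L₂, -, hne₁₂, y₁, hy₁, y₂, hy₂, h₁, h₂⟩ := htwo x' hx'
    set g₀ := g⁻¹ * g'
    have hx₀ : g₀ * x' * g₀⁻¹ = x := by
      calc g₀ * x' * g₀⁻¹ = g⁻¹ * (g' * x' * g'⁻¹) * g := by simp only [g₀]; group
        _ = _ := by rw [he]; group
    have key : ∀ y ∈ zpowers x', ∀ L' : Subgroup S, Home y L' → L'.map (MulAut.conj g₀).toMonoidHom = M := by
      intro y hy L' hL'
      obtain ⟨hy1, r, hr, P, hP, hPe⟩ := hL'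
      have hy' : g₀ * y * g₀⁻¹ ∈ K M := by
        obtain ⟨m, rfl⟩ := mem_zpowers_iff.mp hy
        rw [← conj_zpow, hx₀]
        exact zpow_mem hx.1 m
      exact h.home_unique (h.home_conj ⟨hy1, r, hr, P, hP, hPe⟩ g₀)
        (h.K_home (hJco M hM).1 hy' (mt conj_eq_one_iff.mp hy1) (conj_isPGroup (zpowers_isPGroup P.2 hP) g₀))
    exact hne₁₂ (map_injective (MulAut.conj g₀).injective ((key y₁ hy₁ L₁ h₁).trans (key y₂ hy₂ L₂ h₂).symm))
  have hsum : ∑ M ∈ J, a M + Nat.card (conjOf X) + 1 ≤ Nat.card S := by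
    have hU : (⋃ M ∈ J, conjOf ((K M : Set S) \ {1})).ncard = ∑ M ∈ J, a M := by
      rw [ncard_biUnion_finset (fun M hM M' hM' hne' => hdis₁ M hM M' hM' hne')]
      exact Finset.sum_congr rfl fun M _ => (Nat.card_coe_set_eq _).symm
    have hd : Disjoint (⋃ M ∈ J, conjOf ((K M : Set S) \ {1})) (conjOf X) := by
      simp only [Set.disjoint_iUnion_left]
      exact hdis₂
    have h1 : (1 : S) ∉ (⋃ M ∈ J, conjOf ((K M : Set S) \ {1})) ∪ conjOf X := by
      rintro (h1 | h1)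
      · simp only [Set.mem_iUnion] at h1
        obtain ⟨M, -, g, x, hx, hgx⟩ := h1
        exact hx.2 (conj_eq_one_iff.mp hgx)
      · obtain ⟨g, x, hx, hgx⟩ := h1
        exact hx.2.1 (conj_eq_one_iff.mp hgx)
    have := Set.ncard_le_card (insert (1 : S) ((⋃ M ∈ J, conjOf ((K M : Set S) \ {1})) ∪ conjOf X))
    rw [Set.ncard_insert_of_notMem h1, Set.ncard_union_eq hd, hU, ← Nat.card_coe_set_eq (conjOf X)] at this
    exact this
  have hWsum : Nat.card W = 1 + Nat.card X + ∑ M ∈ J, (Nat.card ↥(K M ⊓ W) - 1) := by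
    have hset : (W : Set S) \ {1} = (⋃ M ∈ J, ((K M ⊓ W : Subgroup S) : Set S) \ {1}) ∪ X := by
      ext x
      simp only [Set.mem_union, Set.mem_iUnion, hX]
      constructor
      · intro hx
        by_cases hall : ∀ M ∈ J, x ∉ K M
        · exact Or.inr ⟨hx.1, hx.2, hall⟩
        · push Not at hall
          obtain ⟨M, hM, hxM⟩ := hall
          exact Or.inl ⟨M, hM, ⟨hxM, hx.1⟩, hx.2⟩
      · rintro (⟨M, hM, hx, hx1⟩ | ⟨hx, hx1, -⟩)
        · exact ⟨hx.2, hx1⟩
        · exact ⟨hx, hx1⟩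
    have hd : Disjoint (⋃ M ∈ J, ((K M ⊓ W : Subgroup S) : Set S) \ {1}) X := by
      simp only [Set.disjoint_iUnion_left]
      exact fun M hM => Set.disjoint_left.mpr fun x hx hxX => hxX.2.2 M hM hx.1.1
    have hpw : Set.PairwiseDisjoint (J : Set (Subgroup S)) fun M => ((K M ⊓ W : Subgroup S) : Set S) \ {1} :=
      fun M hM M' hM' hne' => Set.disjoint_left.mpr fun x hx hx' =>
        hx.2 (h.K_disjoint (hJco M hM).1 (hJco M' hM').1 hne' hx.1.1 hx'.1.1)
    have h1 := hdiff W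
    rw [Nat.card_coe_set_eq, hset, Set.ncard_union_eq hd,
      ncard_biUnion_finset hpw] at h1
    have h2 : ∑ M ∈ J, (((K M ⊓ W : Subgroup S) : Set S) \ {1}).ncard = ∑ M ∈ J, (Nat.card ↥(K M ⊓ W) - 1) :=
      Finset.sum_congr rfl fun M _ => by rw [← Nat.card_coe_set_eq]; exact hdiff _
    rw [h2, ← Nat.card_coe_set_eq X] at h1
    have := Nat.card_pos (α := W)
    omega
  have hn2 : 2 ≤ J.card := Finset.one_lt_card.mpr ⟨L, hLJ, N, hNJ, hne⟩
  -- arithmetic
  set g := Nat.card S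
  set w := Nat.card W
  set b := Nat.card (conjOf X)
  set s := ∑ M ∈ J, (Nat.card ↥(K M ⊓ W) - 1) with hs
  have hstep : ∑ M ∈ J, (2 * g * (Nat.card ↥(K M ⊓ W) - 1) + g) ≤ ∑ M ∈ J, 2 * w * a M := by
    refine Finset.sum_le_sum fun M hM => ?_
    have := arith_step (ha M hM) (hindex M hM).1 (hindex M hM).2 Nat.card_pos
    have hpos := Nat.card_pos (α := ↥(K M ⊓ W))
    rw [Nat.mul_sub, mul_one]
    have : 2 * g ≤ 2 * g * Nat.card ↥(K M ⊓ W) := Nat.le_mul_of_pos_right _ hpos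
    omega
  rw [Finset.sum_add_distrib, ← Finset.mul_sum, ← hs, Finset.sum_const, smul_eq_mul, ← Finset.mul_sum] at hstep
  have hg0 : 0 < g := Nat.card_pos
  have hw0 : 0 < w := Nat.card_pos
  have h6 : 2 * g ≤ J.card * g := Nat.mul_le_mul_right g hn2
  have h7 : 2 * w * (∑ M ∈ J, a M + b + 1) ≤ 2 * w * g := Nat.mul_le_mul_left _ hsum
  have h8 : 2 * g * w = 2 * g * (1 + Nat.card X + s) := by rw [← hWsum]
  nlinarith

end Setting

end Cfsg.Lib.CommValues
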