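import Cfsg.Agent.CommValues.Count
import Cfsg.Agent.Quadratic.BaerSuzuki
import Cfsg.Agent.OddLocal.CNTheorem

/-!
The condition on coprime values forces solvability, hence nilpotency of the term of the series.
-/

set_option autoImplicit false
set_option linter.style.haveILetI false
set_option linter.unusedSectionVars false
set_option linter.unusedVariables false

namespace Cfsg.Lib.CommValues

open Subgroup
open scoped commutatorElement Pointwise

universe u

variable {S : Type u} [Group S] [Finite S] {k : ℕ} {A : Set S}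

theorem exists_prime_ne_two {d : S} (h : ¬ IsPGroup 2 (zpowers d)) :
    ∃ r : ℕ, r.Prime ∧ r ≠ 2 ∧ r ∣ orderOf d := by
  by_contra hno
  push Not at hno
  refine h (IsPGroup.iff_card.mpr ⟨(orderOf d).primeFactorsList.length, ?_⟩)
  rw [Nat.card_zpowers]
  refine Nat.eq_prime_pow_of_unique_prime_dvd (orderOf_pos d).ne' fun {r} hr hd => ?_
  by_contra hr2
  exact hno r hr hr2 hd

namespace Setting

theorem not_even (h : Setting S k A)
    (hnomix : ∀ M : Subgroup S, IsCoatom M → ∀ x ∈ K M, x ≠ 1 → ∀ t ∈ M, x * t = t * x → t ∈ K M)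
    (h2 : 2 ∣ Nat.card S) : False := by
  obtain ⟨P⟩ : Nonempty (Sylow 2 S) := inferInstance
  obtain ⟨z, hz, hzP, hz1, hzc⟩ := h.exists_central_value h2 P
  set M := normalizer ((P : Subgroup S) : Set S) with hMdef
  obtain ⟨hM, -, -, hfoc⟩ := h.sylow_normalizer h2 P
  have hzp : IsPGroup 2 (zpowers z) := zpowers_isPGroup P.2 hzP
  have hzhome : Home z M := ⟨hz1, 2, inferInstance, P, hzP, rfl⟩
  -- a prime power element outside the kernel
  obtain ⟨r, hr, t, ht, htK, htr⟩ : ∃ r : ℕ, r.Prime ∧ ∃ t ∈ M, t ∉ K M ∧ IsPGroup r (zpowers t) := by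
    by_contra hno
    push Not at hno
    have hle : M ≤ K M := le_of_prime_powers fun r hr y hy hyr => by
      by_contra hyK
      exact hno r Fact.out y hy hyK hyr
    haveI : Group.IsNilpotent M :=
      Cfsg.Lib.Components.isNilpotent_of_le (K_nilpotent M) hle
    let PM : Sylow 2 M := P.subtype le_normalizer
    have := image_trivial (MonoidHom.id M) Function.surjective_id PM hfoc
    rw [map_id] at this
    have hzPM : (⟨z, le_normalizer hzP⟩ : M) ∈ (PM : Subgroup M) := hzP
    rw [this, mem_bot] at hzPM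
    exact hz1 (congrArg Subtype.val hzPM)
  haveI := Fact.mk hr
  have ht1 : t ≠ 1 := fun e => htK (e ▸ one_mem _)
  have hr2 : (2 : ℕ) ≠ r := fun e => by
    subst e
    exact htK (h.home_prop (h.home_of_mem hzhome hzp ht ht1 htr)).2.2.2
  -- a central involution of the Sylow subgroup
  obtain ⟨u, huP, hu1, hu2, huc⟩ : ∃ u ∈ (P : Subgroup S), u ≠ 1 ∧ u * u = 1 ∧
      ∀ w ∈ (P : Subgroup S), w * u = u * w := by
    obtain ⟨y, hy⟩ := exists_prime_orderOf_dvd_card' (G := zpowers z) 2
      (by rw [Nat.card_zpowers]; exact dvd_of_mem hzp (mem_zpowers z) hz1)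
    rw [← orderOf_coe] at hy
    obtain ⟨m, hm⟩ := mem_zpowers_iff.mp y.2
    refine ⟨y, zpowers_le.mpr hzP y.2, fun e => ?_, ?_, fun w hw => ?_⟩
    · rw [e, orderOf_one] at hy; omega
    · rw [← sq, ← hy, pow_orderOf_eq_one]
    · rw [← hm]
      exact (Commute.zpow_right (show Commute w z from hzc w hw) m).eq
  let Q : S → Prop := fun c => c ∈ (P : Subgroup S) ∧ c * c = 1 ∧ ∀ w ∈ (P : Subgroup S), w * c = c * w
  have hQ : ∀ n : ℕ, Q (it t u n) := by
    intro n
    induction n with
    | zero => exact ⟨huP, hu2, huc⟩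
    | succ n ih =>
      obtain ⟨hcP, hc2, hcc⟩ := ih
      set c := it t u n
      set d := t * c⁻¹ * t⁻¹
      have hdP : d ∈ (P : Subgroup S) := (mem_normalizer_iff.mp ht _).mp (inv_mem hcP)
      have hdc : ∀ w ∈ (P : Subgroup S), w * d = d * w := by
        intro w hw
        have hw' : t⁻¹ * w * t ∈ (P : Subgroup S) := (mem_normalizer_iff''.mp ht w).mp hw
        have h1 : (t⁻¹ * w * t) * c⁻¹ = c⁻¹ * (t⁻¹ * w * t) :=
          ((show Commute (t⁻¹ * w * t) c from hcc _ hw').inv_right).eq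
        calc w * d = t * ((t⁻¹ * w * t) * c⁻¹) * t⁻¹ := by simp only [d]; group
          _ = _ := by rw [h1]; simp only [d]; group
      have hd2 : d * d = 1 := by
        calc d * d = t * (c * c)⁻¹ * t⁻¹ := by simp only [d]; group
          _ = 1 := by rw [hc2]; group
      have e : it t u (n + 1) = c * d := by
        show ⁅c, t⁆ = c * d
        rw [commutatorElement_def]; simp only [d]; group
      rw [e]
      refine ⟨mul_mem hcP hdP, ?_, fun w hw => ?_⟩
      · calc c * d * (c * d) = c * (d * c) * d := by group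
          _ = c * (c * d) * d := by rw [← hdc c hcP]
          _ = (c * c) * (d * d) := by group
          _ = 1 := by rw [hc2, hd2, one_mul]
      · rw [← mul_assoc, hcc w hw, mul_assoc, hdc w hw, ← mul_assoc]
  set v := it t u k
  obtain ⟨hvP, hv2, -⟩ := hQ k
  have hvA : v ∈ A := h.good.it_mem 2 P P.2 u huP t ht
  have hv1 : v ≠ 1 := fun e => htK (hnomix M hM u
    (h.home_prop ⟨hu1, 2, inferInstance, P, huP, rfl⟩).2.2.2 hu1 t ht
    (commute_of_it P.2 ht (not_dvd_of_isPGroup hr2 htr) huP e).eq)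
  have hvp : IsPGroup 2 (zpowers v) := zpowers_isPGroup P.2 hvP
  have hvinv : v⁻¹ = v := inv_eq_of_mul_eq_one_right hv2
  -- Baer–Suzuki
  obtain ⟨g, hg⟩ : ∃ g : S, ¬ IsPGroup 2 ↥(zpowers v ⊔ (zpowers v).map (MulAut.conj g).toMonoidHom) := by
    by_contra hno
    push Not at hno
    obtain ⟨N, hN, hNp, hle⟩ := Cfsg.Lib.BaerSuzuki.baer_suzuki (zpowers v) hno
    have := h.eq_bot_of_normal hN (h.pgroup_ne_top hNp)
    rw [this] at hle
    exact hv1 (mem_bot.mp (hle (mem_zpowers v)))
  set d := v * (g * v * g⁻¹) with hd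
  have hvd : v * d * v⁻¹ = d⁻¹ := by
    have h1 : g * v * g⁻¹ * (g * v * g⁻¹) = 1 := by
      calc _ = g * (v * v) * g⁻¹ := by group
        _ = 1 := by rw [hv2]; group
    rw [hd, mul_inv_rev, inv_eq_of_mul_eq_one_right h1, hvinv, ← mul_assoc, hv2, one_mul]
  have hnd : ¬ IsPGroup 2 (zpowers d) := by
    intro hdp
    have hn : zpowers v ≤ normalizer ((zpowers d : Subgroup S) : Set S) := by
      rw [zpowers_le]
      refine Cfsg.Lib.SolvStruct.mem_normalizer_of_conj_smul_le ?_
      rintro _ ⟨w, hw, rfl⟩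
      obtain ⟨m, rfl⟩ := mem_zpowers_iff.mp hw
      show v * d ^ m * v⁻¹ ∈ zpowers d
      rw [← conj_zpow, hvd]
      exact zpow_mem (inv_mem (mem_zpowers d)) m
    refine hg ((hvp.to_sup_of_normal_right' hdp hn).to_le (sup_le le_sup_left ?_))
    rw [MonoidHom.map_zpowers, zpowers_le]
    have e : (MulAut.conj g).toMonoidHom v = v⁻¹ * d := by
      show g * v * g⁻¹ = v⁻¹ * d
      rw [hd]; group
    rw [e]
    exact mul_mem (mem_sup_left (inv_mem (mem_zpowers v))) (mem_sup_right (mem_zpowers d))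
  obtain ⟨s, hs, hs2, hsd⟩ := exists_prime_ne_two hnd
  haveI := Fact.mk hs
  obtain ⟨b, hb⟩ := exists_prime_orderOf_dvd_card' (G := zpowers d) s (by rwa [Nat.card_zpowers])
  rw [← orderOf_coe] at hb
  obtain ⟨m, hm⟩ := mem_zpowers_iff.mp b.2
  have hvb : v * (b : S) * v⁻¹ = (b : S)⁻¹ := by rw [← hm, ← conj_zpow, hvd, inv_zpow]
  have hbp : IsPGroup s (zpowers (b : S)) := IsPGroup.iff_card.mpr ⟨1, by rw [Nat.card_zpowers, hb, pow_one]⟩
  have hvn : v ∈ normalizer ((zpowers (b : S) : Subgroup S) : Set S) := by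
    refine Cfsg.Lib.SolvStruct.mem_normalizer_of_conj_smul_le ?_
    rintro _ ⟨w, hw, rfl⟩
    obtain ⟨i, rfl⟩ := mem_zpowers_iff.mp hw
    show v * (b : S) ^ i * v⁻¹ ∈ zpowers (b : S)
    rw [← conj_zpow, hvb]
    exact zpow_mem (inv_mem (mem_zpowers _)) i
  have hcomm := h.good.cent v hvA s 2 hs2 hvp (zpowers (b : S)) hbp hvn (b : S) (mem_zpowers _)
  rw [← hcomm, mul_inv_cancel_right] at hvb
  have h4 : (b : S) ^ 2 = 1 := by rw [sq]; nth_rw 1 [hvb]; exact inv_mul_cancel _
  have := (Nat.prime_dvd_prime_iff_eq hs Nat.prime_two).mp (hb ▸ orderOf_dvd_of_pow_eq_one h4)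
  exact hs2 this

theorem contradiction (h : Setting S k A) : False := by
  by_cases hmix : ∀ M : Subgroup S, IsCoatom M → ∀ x ∈ K M, x ≠ 1 → ∀ t ∈ M, x * t = t * x → t ∈ K M
  · rcases Nat.even_or_odd (Nat.card S) with hev | hodd
    · exact h.not_even hmix (even_iff_two_dvd.mp hev)
    refine h.nsol (Cfsg.Lib.CN.solvable_of_odd _ rfl hodd fun g hg => ?_)
    obtain ⟨y, hy, hy1, p, hp, hyp⟩ := exists_prime_power_mem hg
    haveI := Fact.mk hp
    obtain ⟨L, hL⟩ := h.home_exists hy1 hyp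
    obtain ⟨hLc, -, hCL, hyK⟩ := h.home_prop hL
    refine Cfsg.Lib.Components.isNilpotent_of_le (K_nilpotent L) fun c hc => ?_
    have hc' := zpowers_le_centralizer g hy hc
    exact hmix L hLc y hyK hy1 c (hCL hc') (mem_centralizer_singleton_iff.mp hc').symm
  · push Not at hmix
    obtain ⟨L, hL, x, hx, hx1, t, ht, hxt, htK⟩ := hmix
    obtain ⟨y, hy, hy1, p, hp, hyp⟩ := exists_prime_power_mem hx1
    haveI := Fact.mk hp
    obtain ⟨q, hq, t', ht', ht'K, ht'q⟩ :
        ∃ q : ℕ, q.Prime ∧ ∃ t' ∈ zpowers t, t' ∉ K L ∧ IsPGroup q (zpowers t') := by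
      by_contra hno
      push Not at hno
      refine htK ((le_of_prime_powers fun q hq z hz hzq => ?_ : zpowers t ≤ K L) (mem_zpowers t))
      by_contra hzK
      exact hno q Fact.out z hz hzK hzq
    haveI := Fact.mk hq
    have ht'1 : t' ≠ 1 := fun e => ht'K (e ▸ one_mem _)
    obtain ⟨N, hN⟩ := h.home_exists ht'1 ht'q
    obtain ⟨hNc, -, hCN, ht'N⟩ := h.home_prop hN
    have hne : L ≠ N := fun e => ht'K (e ▸ ht'N)
    obtain ⟨i, hi⟩ := mem_zpowers_iff.mp hy
    obtain ⟨j, hj⟩ := mem_zpowers_iff.mp ht'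
    have hyt : y * t' = t' * y := by
      rw [← hi, ← hj]
      exact ((show Commute x t from hxt).zpow_left i).zpow_right j
    exact h.count_contra hne hyp ht'q (h.K_home hL (zpowers_le.mpr hx hy) hy1 hyp) hN
      (hCN (mem_centralizer_singleton_iff.mpr hyt)) (zpowers_le.mpr ht ht')

end Setting

section Reduction

variable {G H : Type u} [Group G] [Finite G] [Group H] [Finite H]

set_option maxHeartbeats 1000000 in
/-- lifting `q`-subgroups together with their normalisers -/
theorem exists_lift (f : G →* H) (hf : Function.Surjective f) {q : ℕ} [Fact q.Prime] (U : Subgroup H)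
    (hU : IsPGroup q U) :
    ∃ U₀ : Subgroup G, IsPGroup q U₀ ∧ U₀.map f = U ∧
      normalizer (U : Set H) ≤ (normalizer (U₀ : Set G)).map f := by
  set N := (normalizer (U : Set H)).comap f
  set E : Subgroup N := (U.comap f).subgroupOf N with hE
  haveI : E.Normal := by
    constructor
    intro x hx n
    show f ((n : G) * (x : G) * (n : G)⁻¹) ∈ U
    rw [map_mul, map_mul, map_inv]
    exact (mem_normalizer_iff.mp n.2 _).mp hx
  obtain ⟨Q⟩ : Nonempty (Sylow q E) := inferInstance
  set U₀ : Subgroup G := ((Q : Subgroup E).map E.subtype).map N.subtype with hU₀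
  have hEU : (E.map N.subtype).map f = U := by
    have hle : U.comap f ≤ N := comap_mono le_normalizer
    rw [hE, subgroupOf_map_subtype, inf_eq_left.mpr hle, map_comap_eq_self_of_surjective hf]
  have hle : U₀ ≤ E.map N.subtype := map_mono (map_subtype_le _)
  have hmap : U₀.map f = U := by
    refine le_antisymm ((map_mono hle).trans hEU.le) ?_
    let fE : E →* U := ((f.comp N.subtype).comp E.subtype).codRestrict U fun x => x.2
    have hfE : Function.Surjective fE := by
      rintro ⟨y, hy⟩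
      obtain ⟨x, rfl⟩ := hf y
      exact ⟨⟨⟨x, le_normalizer hy⟩, hy⟩, Subtype.ext rfl⟩
    have htop : (Q : Subgroup E).map fE = ⊤ := ((Q.mapSurjective hfE).3 (hU.to_subgroup ⊤) le_top).symm
    intro y hy
    obtain ⟨e, he, hey⟩ := htop.ge (mem_top (⟨y, hy⟩ : U))
    exact ⟨((e : N) : G), ⟨(e : N), ⟨e, he, rfl⟩, rfl⟩, congrArg Subtype.val hey⟩
  refine ⟨U₀, (Q.2.map _).map _, hmap, ?_⟩
  intro y hy
  obtain ⟨x, rfl⟩ := hf y
  have h1 : (⟨x, hy⟩ : N) ∈ normalizer (((Q : Subgroup E).map E.subtype : Subgroup N) : Set N) ⊔ E :=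
    (Sylow.normalizer_sup_eq_top Q).ge (mem_top _)
  rw [← SetLike.mem_coe, Subgroup.mul_normal] at h1
  obtain ⟨a, ha, e, he, hae⟩ := Set.mem_mul.mp h1
  have hfe : f (e : G) ∈ (normalizer (U₀ : Set G)).map f := map_mono le_normalizer (hmap.ge he)
  have hfa : f (a : G) ∈ (normalizer (U₀ : Set G)).map f :=
    mem_map_of_mem f (le_normalizer_map N.subtype (mem_map_of_mem N.subtype ha))
  have : x = (a : G) * (e : G) := (congrArg Subtype.val hae).symm
  rw [this, map_mul]
  exact mul_mem hfa hfe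

theorem center_le_normalizer (U : Subgroup G) : center G ≤ normalizer (U : Set G) := fun z hz =>
  mem_normalizer_iff.mpr fun r => by rw [← mem_center_iff.mp hz r, mul_inv_cancel_right]

theorem Crit.solvable_aux : ∀ (n : ℕ) (G : Type u) [Group G] [Finite G], Nat.card G = n → ∀ k : ℕ,
    Crit G k → Group.IsSolvable G := by
  intro n
  induction n using Nat.strong_induction_on with
  | _ n ih =>
  intro G _ _ hn k hcrit
  by_contra hns
  have hproper : ∀ M : Subgroup G, M ≠ ⊤ → Group.IsSolvable M := fun M hM =>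
    ih _ (hn ▸ lt_of_le_of_ne (card_le_card_group M) fun e => hM (eq_top_of_card_eq M e)) M rfl k
      (hcrit.subgroup M)
  set R := frattini G with hR
  haveI : Group.IsNilpotent R := frattini_nilpotent
  haveI : Group.IsSolvable R := inferInstance
  have hnormal : ∀ N : Subgroup G, N.Normal → N ≠ ⊤ → N ≤ R := by
    intro N hN hNt
    rw [hR, frattini, Order.radical]
    refine le_iInf₂ fun M hM => ?_
    by_contra hNM
    refine hns ?_
    have hsup : M ⊔ N = ⊤ := hM.2 _ (lt_of_le_of_ne le_sup_left fun e => hNM (e ▸ le_sup_right))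
    haveI := hN
    haveI := hproper N hNt
    haveI := hproper M hM.1
    have hsurj : Function.Surjective ((QuotientGroup.mk' N).comp M.subtype) := by
      rw [← MonoidHom.range_eq_top, MonoidHom.range_comp, range_subtype,
        ← map_top_of_surjective _ (QuotientGroup.mk'_surjective N), ← hsup, Subgroup.map_sup,
        (Subgroup.map_eq_bot_iff N).mpr (QuotientGroup.ker_mk' N).ge, sup_bot_eq]
    haveI : Group.IsSolvable (G ⧸ N) := solvable_of_surjective hsurj
    exact solvable_of_ker_le_range N.subtype (QuotientGroup.mk' N) (by rw [QuotientGroup.ker_mk', range_subtype])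
  set f := QuotientGroup.mk' R
  have hf : Function.Surjective f := QuotientGroup.mk'_surjective R
  have hRt : R ≠ ⊤ := fun e => hns (by
    haveI : Group.IsSolvable (⊤ : Subgroup G) := e ▸ (inferInstance : Group.IsSolvable R)
    exact solvable_of_surjective (f := (⊤ : Subgroup G).subtype) fun x => ⟨⟨x, mem_top x⟩, rfl⟩)
  have hnsQ : ¬ Group.IsSolvable (G ⧸ R) := fun hs => hns (by
    haveI := hs
    exact solvable_of_ker_le_range R.subtype f (by rw [QuotientGroup.ker_mk', range_subtype]))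
  haveI hnt : Nontrivial (G ⧸ R) := not_subsingleton_iff_nontrivial.mp fun hs => hnsQ inferInstance
  have hsimple : IsSimpleGroup (G ⧸ R) := ⟨fun N hN => by
    by_cases ht : N.comap f = ⊤
    · exact Or.inr (comap_injective hf (ht.trans (comap_top f).symm))
    · refine Or.inl ?_
      rw [← map_comap_eq_self_of_surjective hf N, eq_bot_iff]
      exact (map_mono (hnormal _ (hN.comap f) ht)).trans
        ((Subgroup.map_eq_bot_iff R).mpr (QuotientGroup.ker_mk' R).ge).le⟩
  -- values outside the radical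
  have hvalue : ∀ (q : ℕ) [Fact q.Prime], q ∣ Nat.card (G ⧸ R) →
      ∃ v ∈ PV G k, IsPGroup q (zpowers v) ∧ v ∉ R := by
    intro q _ hq
    have hnc : ¬ Cfsg.HasNormalPComplement q (G ⧸ R) := by
      rintro ⟨P, N, hN, hc⟩
      rcases hsimple.eq_bot_or_eq_top_of_normal N hN with e | e
      · rw [e, isComplement'_bot_left] at hc
        haveI : Group.IsNilpotent (P : Subgroup (G ⧸ R)) := P.2.isNilpotent
        exact hnsQ (solvable_of_surjective (f := (P : Subgroup (G ⧸ R)).subtype)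
          fun x => ⟨⟨x, hc.ge (mem_top x)⟩, rfl⟩)
      · rw [e, isComplement'_top_left] at hc
        exact P.ne_bot_of_dvd_card hq hc
    by_contra hno
    push Not at hno
    refine hnc (Cfsg.Lib.Transfer.hasNormalPComplement_of_frobenius fun U hU g hg hcop r hr => ?_)
    obtain ⟨U₀, hU₀, hmap, hN⟩ := exists_lift f hf U hU
    obtain ⟨g₀, hg₀, rfl⟩ := hN hg
    obtain ⟨r₀, hr₀, rfl⟩ := hmap.ge hr
    refine (commute_of_it hU hg ((Fact.out : q.Prime).coprime_iff_not_dvd.mp hcop.symm) hr (n := k) ?_).eq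
    rw [← map_it]
    exact (QuotientGroup.eq_one_iff _).mpr (hno _ (hcrit.good.it_mem q U₀ hU₀ r₀ hr₀ g₀ hg₀)
      (zpowers_isPGroup hU₀ (CommValues.it_mem hg₀ hr₀ k)))
  -- the radical is central
  have hcentral : R ≤ center G := by
    refine le_of_prime_powers fun p _ y hy hyp => ?_
    have hyc : y ∈ Cfsg.pCore p G := by
      refine fitting_le_pCore (Cfsg.Lib.Components.le_fitting (N := R) inferInstance hy) hyp
    obtain ⟨q, hq, hqp, hqd⟩ : ∃ q : ℕ, q.Prime ∧ q ≠ p ∧ q ∣ Nat.card (G ⧸ R) := by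
      by_contra hno
      push Not at hno
      refine hnsQ ?_
      have hP : IsPGroup p (G ⧸ R) := IsPGroup.iff_card.mpr ⟨_, Nat.eq_prime_pow_of_unique_prime_dvd
        Nat.card_pos.ne' fun {r} hr hd => by_contra fun hrp => hno r hr hrp hd⟩
      haveI : Group.IsNilpotent (G ⧸ R) := hP.isNilpotent
      infer_instance
    haveI := Fact.mk hq
    obtain ⟨v, hv, hvq, hvR⟩ := hvalue q hqd
    haveI hCn : (centralizer (Cfsg.pCore p G : Set G)).Normal := inferInstance
    have hvC : v ∈ centralizer (Cfsg.pCore p G : Set G) :=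
      hcrit.good.cent v hv p q (Ne.symm hqp) hvq _ (Cfsg.Lib.Components.pCore_normal_and_isPGroup p).2
        (by rw [normalizer_eq_top]; exact mem_top v)
    have htop : centralizer (Cfsg.pCore p G : Set G) = ⊤ := by
      by_contra hne
      exact hvR (hnormal _ hCn hne hvC)
    exact mem_center_iff.mpr fun a => ((htop.ge (mem_top a)) y hyc).symm
  -- the simple quotient
  have hker : f.ker = R := QuotientGroup.ker_mk' R
  refine Setting.contradiction (S := G ⧸ R) (k := k) (A := f '' PV G k) ⟨hsimple, hnsQ, ?_, ?_⟩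
  · intro M hM
    have ht : M.comap f ≠ ⊤ := fun e => hM (comap_injective hf (e.trans (comap_top f).symm))
    haveI := hproper _ ht
    refine solvable_of_surjective (f := (f.comp (M.comap f).subtype).codRestrict M fun x => x.2) ?_
    rintro ⟨y, hy⟩
    obtain ⟨x, rfl⟩ := hf y
    exact ⟨⟨x, hy⟩, rfl⟩
  · refine ⟨?_, ?_, ?_, ?_⟩
    · rintro _ ⟨v, hv, rfl⟩ p q _ _ hpq hvq P hP hn
      by_cases hv1 : f v = 1
      · rw [hv1]; exact one_mem _
      obtain ⟨r, hr, hvr⟩ := hv.1
      haveI := Fact.mk hr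
      have hvr' : IsPGroup r (zpowers (f v)) := by
        have := hvr.map f
        rwa [MonoidHom.map_zpowers] at this
      obtain rfl := prime_eq hv1 hvq hvr'
      obtain ⟨P₀, hP₀, hmap, hN⟩ := exists_lift f hf P hP
      obtain ⟨w, hw, hwv⟩ := hN hn
      have hvn : v ∈ normalizer (P₀ : Set G) := by
        have hz : w⁻¹ * v ∈ R := by rw [← hker, MonoidHom.mem_ker, map_mul, map_inv, hwv, inv_mul_cancel]
        simpa using mul_mem hw (center_le_normalizer P₀ (hcentral hz))
      intro x hx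
      obtain ⟨x₀, hx₀, rfl⟩ := hmap.ge hx
      rw [← map_mul, ← map_mul, hcrit.good.cent v hv p q hpq hvr P₀ hP₀ hvn x₀ hx₀]
    · intro q _ Q hQ u hu g hg
      obtain ⟨Q₀, hQ₀, hmap, hN⟩ := exists_lift f hf Q hQ
      obtain ⟨g₀, hg₀, rfl⟩ := hN hg
      obtain ⟨u₀, hu₀, rfl⟩ := hmap.ge hu
      exact ⟨_, hcrit.good.it_mem q Q₀ hQ₀ u₀ hu₀ g₀ hg₀, map_it f g₀ u₀ k⟩
    · rintro q _ Q hQ _ ⟨v, hv, rfl⟩ hvQ w hw
      obtain ⟨Q₀, hQ₀, hmap, -⟩ := exists_lift f hf Q hQ
      obtain ⟨v₀, hv₀, hv₀e⟩ := hmap.ge hvQ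
      obtain ⟨w₀, hw₀, rfl⟩ := hmap.ge hw
      have hz : v₀⁻¹ * v ∈ center G := hcentral (by
        rw [← hker, MonoidHom.mem_ker, map_mul, map_inv, hv₀e, inv_mul_cancel])
      have e : ⁅v, w₀⁆ = ⁅v₀, w₀⁆ := by
        obtain ⟨z, hz', rfl⟩ : ∃ z ∈ center G, v = v₀ * z := ⟨_, hz, by group⟩
        rw [commutatorElement_def, commutatorElement_def,
          show v₀ * z * w₀ * (v₀ * z)⁻¹ = v₀ * (z * w₀ * z⁻¹) * v₀⁻¹ by group,
          ← mem_center_iff.mp hz' w₀, mul_inv_cancel_right]
      refine ⟨⁅v, w₀⁆, ⟨⟨q, Fact.out, ?_⟩, V_succ_subset k ⟨v, hv.2, w₀, rfl⟩⟩, map_commutatorElement f v w₀⟩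
      rw [e]
      exact zpowers_isPGroup hQ₀ (commutator_mem_of_normalizer (le_normalizer hw₀) hv₀)
    · rintro _ ⟨v, hv, rfl⟩ g
      obtain ⟨g₀, rfl⟩ := hf g
      exact ⟨g₀ * v * g₀⁻¹, hcrit.good.conj_mem v hv g₀, by simp⟩

theorem Crit.solvable {k : ℕ} (h : Crit G k) : Group.IsSolvable G :=
  Crit.solvable_aux _ G rfl k h

/-- The criterion. -/
theorem Crit.isNilpotent {k : ℕ} (h : Crit G k) :
    Group.IsNilpotent ↥((⊤ : Subgroup G).lowerCentralSeries k) := by
  haveI := h.solvable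
  exact Cfsg.Lib.Components.isNilpotent_of_le Cfsg.Lib.Components.isNilpotent_fitting h.lower_le_fitting

/-- The converse: coprime elements of a nilpotent subgroup commute. -/
theorem crit_of_isNilpotent {k : ℕ} (h : Group.IsNilpotent ↥((⊤ : Subgroup G).lowerCentralSeries k)) :
    Crit G k := by
  intro x hx y hy hco
  refine Or.inr (le_of_eq ?_)
  exact ((Cfsg.Lib.CN.commute_of_mem h (V_subset_lower k hx) (V_subset_lower k hy) hco
    ).orderOf_mul_eq_mul_orderOf_of_coprime hco).symm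

end Reduction

end Cfsg.Lib.CommValues
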