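import Cfsg.Agent.CommValues.Local

/-!
Each element of prime power order has a unique maximal subgroup in which it lies in the nilpotent kernel.
-/

set_option autoImplicit false
set_option linter.style.haveILetI false
set_option linter.unusedSectionVars false
set_option linter.unusedVariables false

namespace Cfsg.Lib.CommValues

open Subgroup
open scoped commutatorElement Pointwise

universe u

variable {S : Type u} [Group S] [Finite S] {k : ℕ} {A : Set S}

/-- `M` is the Sylow normaliser attached to the prime power element `x` -/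
def Home (x : S) (M : Subgroup S) : Prop :=
  x ≠ 1 ∧ ∃ (p : ℕ) (_ : Fact p.Prime) (P : Sylow p S),
    x ∈ (P : Subgroup S) ∧ M = normalizer ((P : Subgroup S) : Set S)

/-- the nilpotent kernel of a subgroup -/
def K (M : Subgroup S) : Subgroup S := (Cfsg.fittingSubgroup M).map M.subtype

theorem K_le (M : Subgroup S) : K M ≤ M := map_subtype_le _

theorem K_nilpotent (M : Subgroup S) : Group.IsNilpotent (K M) :=
  Cfsg.Lib.Components.isNilpotent_map Cfsg.Lib.Components.isNilpotent_fitting M.subtype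

theorem conj_mem_K {M : Subgroup S} {m x : S} (hm : m ∈ M) (hx : x ∈ K M) : m * x * m⁻¹ ∈ K M := by
  obtain ⟨y, hy, rfl⟩ := hx
  exact ⟨⟨m, hm⟩ * y * ⟨m, hm⟩⁻¹,
    (inferInstance : (Cfsg.fittingSubgroup M).Normal).conj_mem y hy ⟨m, hm⟩, rfl⟩

theorem dvd_of_mem {p : ℕ} [Fact p.Prime] {P : Subgroup S} (hP : IsPGroup p P) {x : S} (hx : x ∈ P)
    (hx1 : x ≠ 1) : p ∣ orderOf x := by
  by_contra h
  exact hx1 (orderOf_eq_one_iff.mp ((Nat.coprime_self _).mp (orderOf_coprime_of_mem hP hx h)))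

theorem prime_eq {p q : ℕ} [Fact p.Prime] [hq : Fact q.Prime] {x : S} (hx1 : x ≠ 1)
    (hp : IsPGroup p (zpowers x)) (hq' : IsPGroup q (zpowers x)) : p = q := by
  by_contra hne
  exact not_dvd_of_isPGroup hne hq' (dvd_of_mem hp (mem_zpowers x) hx1)

theorem exists_prime_power_mem {x : S} (hx : x ≠ 1) :
    ∃ y ∈ zpowers x, y ≠ 1 ∧ ∃ p : ℕ, p.Prime ∧ IsPGroup p (zpowers y) := by
  obtain ⟨p, hp, hd⟩ := Nat.exists_prime_and_dvd (fun e => hx (orderOf_eq_one_iff.mp e))
  haveI := Fact.mk hp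
  obtain ⟨y, hy⟩ := exists_prime_orderOf_dvd_card' (G := zpowers x) p (by rwa [Nat.card_zpowers])
  rw [← orderOf_coe] at hy
  refine ⟨(y : S), y.2, fun e => ?_, p, hp, ?_⟩
  · rw [e, orderOf_one] at hy; exact hp.one_lt.ne hy
  · exact IsPGroup.iff_card.mpr ⟨1, by rw [Nat.card_zpowers, hy, pow_one]⟩

theorem zpowers_le_centralizer (x : S) {y : S} (hy : y ∈ zpowers x) :
    centralizer ({x} : Set S) ≤ centralizer ({y} : Set S) := by
  intro g hg
  obtain ⟨m, rfl⟩ := mem_zpowers_iff.mp hy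
  rw [mem_centralizer_singleton_iff] at hg ⊢
  exact (Commute.zpow_right (show Commute g x from hg) m).eq

namespace Setting

theorem sylow_eq (h : Setting S k A) {p : ℕ} [Fact p.Prime] {x : S} (hx1 : x ≠ 1) (P Q : Sylow p S)
    (hP : x ∈ (P : Subgroup S)) (hQ : x ∈ (Q : Subgroup S)) : P = Q := by
  obtain ⟨c, rfl⟩ := MulAction.exists_smul_eq S P Q
  have hp : p ∣ Nat.card S := (dvd_of_mem P.2 hP hx1).trans (orderOf_dvd_natCard x)
  rw [Sylow.coe_subgroup_smul] at hQ
  obtain ⟨w, hw, hwx⟩ := hQ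
  have hw' : c * w * c⁻¹ = x := hwx
  have hw1 : w ≠ 1 := fun e => hx1 (by rw [← hw', e]; group)
  have := (h.sylow_normalizer hp P).2.2.1 w hw hw1 c (hw' ▸ hP)
  exact (Sylow.smul_eq_iff_mem_normalizer.mpr this).symm

theorem home_exists (h : Setting S k A) {p : ℕ} [Fact p.Prime] {x : S} (hx1 : x ≠ 1)
    (hx : IsPGroup p (zpowers x)) : ∃ M, Home x M := by
  obtain ⟨P, hP⟩ := hx.exists_le_sylow
  exact ⟨_, hx1, p, inferInstance, P, hP (mem_zpowers x), rfl⟩

theorem home_unique (h : Setting S k A) {x : S} {M N : Subgroup S} (hM : Home x M) (hN : Home x N) :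
    M = N := by
  obtain ⟨hx1, p, hp, P, hP, rfl⟩ := hM
  obtain ⟨-, q, hq, Q, hQ, rfl⟩ := hN
  obtain rfl := prime_eq hx1 (zpowers_isPGroup P.2 hP) (zpowers_isPGroup Q.2 hQ)
  rw [h.sylow_eq hx1 P Q hP hQ]

theorem home_prop (h : Setting S k A) {x : S} {M : Subgroup S} (hM : Home x M) :
    IsCoatom M ∧ x ∈ M ∧ centralizer ({x} : Set S) ≤ M ∧ x ∈ K M := by
  obtain ⟨hx1, p, hp, P, hP, rfl⟩ := hM
  have hd : p ∣ Nat.card S := (dvd_of_mem P.2 hP hx1).trans (orderOf_dvd_natCard x)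
  obtain ⟨h1, h2, -, -⟩ := h.sylow_normalizer hd P
  refine ⟨h1, le_normalizer hP, h2 x hP hx1, ?_⟩
  refine ⟨⟨x, le_normalizer hP⟩, ?_, rfl⟩
  haveI : Group.IsNilpotent ((P : Subgroup S).subgroupOf (normalizer ((P : Subgroup S) : Set S))) :=
    P.2.comap_subtype.isNilpotent
  exact Cfsg.Lib.Components.le_fitting
    (N := (P : Subgroup S).subgroupOf (normalizer ((P : Subgroup S) : Set S))) inferInstance hP

theorem home_conj (h : Setting S k A) {x : S} {M : Subgroup S} (hM : Home x M) (g : S) :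
    Home (g * x * g⁻¹) (M.map (MulAut.conj g).toMonoidHom) := by
  obtain ⟨hx1, p, hp, P, hP, rfl⟩ := hM
  refine ⟨mt conj_eq_one_iff.mp hx1, p, hp, g • P, ?_, ?_⟩
  · rw [Sylow.coe_subgroup_smul]
    exact mem_map_of_mem (MulAut.conj g).toMonoidHom hP
  · rw [map_equiv_normalizer_eq, Sylow.coe_subgroup_smul]
    rfl

/-- prime power elements of a Sylow normaliser for its prime -/
theorem home_of_mem (h : Setting S k A) {x : S} {M : Subgroup S} (hM : Home x M) {p : ℕ} [Fact p.Prime]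
    (hxp : IsPGroup p (zpowers x)) {y : S} (hy : y ∈ M) (hy1 : y ≠ 1) (hyp : IsPGroup p (zpowers y)) :
    Home y M := by
  obtain ⟨hx1, q, hq, P, hP, rfl⟩ := hM
  obtain rfl := prime_eq hx1 hxp (zpowers_isPGroup P.2 hP)
  refine ⟨hy1, p, inferInstance, P, ?_, rfl⟩
  have hsup := hyp.to_sup_of_normal_right' P.2 (zpowers_le.mpr hy)
  have := P.3 hsup le_sup_right
  exact this ▸ mem_sup_left (mem_zpowers y)

theorem K_home (h : Setting S k A) {M : Subgroup S} (hM : IsCoatom M) {p : ℕ} [Fact p.Prime] {x : S}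
    (hx : x ∈ K M) (hx1 : x ≠ 1) (hxp : IsPGroup p (zpowers x)) : Home x M := by
  obtain ⟨y, hy, rfl⟩ := hx
  have hyp : IsPGroup p (zpowers y) := by
    obtain ⟨i, hi⟩ := pow_eq_one_of_isPGroup hxp
    refine IsPGroup.iff_card.mpr ?_
    rw [Nat.card_zpowers]
    obtain ⟨j, -, hj⟩ := (Nat.dvd_prime_pow Fact.out).mp (orderOf_dvd_of_pow_eq_one
      (show y ^ p ^ i = 1 from Subtype.ext hi))
    exact ⟨j, hj⟩
  have hyc := fitting_le_pCore hy hyp
  set R : Subgroup S := (Cfsg.pCore p M).map M.subtype with hR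
  have hRp : IsPGroup p R := (Cfsg.Lib.Components.pCore_normal_and_isPGroup p).2.map _
  have hRM : R ≤ M := map_subtype_le _
  have hMR : M ≤ normalizer (R : Set S) := by
    intro m hm
    refine Cfsg.Lib.SolvStruct.mem_normalizer_of_conj_smul_le ?_
    rintro _ ⟨_, ⟨z, hz, rfl⟩, rfl⟩
    exact ⟨⟨m, hm⟩ * z * ⟨m, hm⟩⁻¹, (inferInstance : (Cfsg.pCore p M).Normal).conj_mem z hz ⟨m, hm⟩, rfl⟩
  have hxR : (M.subtype y : S) ∈ R := mem_map_of_mem _ hyc
  have hNR : normalizer (R : Set S) ≠ ⊤ :=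
    h.normalizer_ne_top (fun e => hx1 (by rw [e] at hxR; exact mem_bot.mp hxR)) (h.pgroup_ne_top hRp)
  have hMeq : M = normalizer (R : Set S) := by
    rcases eq_or_lt_of_le hMR with e | e
    · exact e
    · exact absurd (hM.2 _ e) hNR
  obtain ⟨P, hP⟩ := hRp.exists_le_sylow
  have hd : p ∣ Nat.card S := (dvd_of_mem P.2 (hP hxR) hx1).trans (orderOf_dvd_natCard _)
  obtain ⟨z, hz, hzP, hz1, hzc⟩ := h.exists_central_value hd P
  have hzM : z ∈ M := by
    rw [hMeq]
    refine mem_normalizer_iff.mpr fun r => ⟨fun hr => ?_, fun hr => ?_⟩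
    · rw [← hzc r (hP hr), mul_assoc, mul_inv_cancel, mul_one]; exact hr
    · have := hzc _ (hP hr)
      have e : r = z * r * z⁻¹ := by
        calc r = z⁻¹ * (z * r * z⁻¹ * z) := by group
          _ = z⁻¹ * (z * (z * r * z⁻¹)) := by rw [this]
          _ = _ := by group
      exact e ▸ hr
  refine ⟨hx1, p, inferInstance, P, hP hxR, ?_⟩
  exact h.eq_of_value hz hz1 (zpowers_isPGroup P.2 hzP) hM hzM (h.sylow_normalizer hd P).1 (le_normalizer hzP)

theorem K_centralizer (h : Setting S k A) {M : Subgroup S} (hM : IsCoatom M) {x : S} (hx : x ∈ K M)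
    (hx1 : x ≠ 1) : centralizer ({x} : Set S) ≤ M := by
  obtain ⟨y, hy, hy1, p, hp, hyp⟩ := exists_prime_power_mem hx1
  haveI := Fact.mk hp
  exact (zpowers_le_centralizer x hy).trans
    (h.home_prop (h.K_home hM (zpowers_le.mpr hx hy) hy1 hyp)).2.2.1

theorem self_normalizing (h : Setting S k A) {M : Subgroup S} (hM : IsCoatom M) (hb : M ≠ ⊥) {g : S}
    (hg : M.map (MulAut.conj g).toMonoidHom = M) : g ∈ M := by
  have hgN : g ∈ normalizer (M : Set S) := Cfsg.Lib.Transfer.map_conj_eq_self_iff.mp hg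
  rcases eq_or_lt_of_le (le_normalizer (H := M)) with e | e
  · exact e ▸ hgN
  · exact absurd (hM.2 _ e) (h.normalizer_ne_top hb hM.1)

theorem K_TI (h : Setting S k A) {M : Subgroup S} (hM : IsCoatom M) {x : S} (hx : x ∈ K M) (hx1 : x ≠ 1)
    {g : S} (hg : g * x * g⁻¹ ∈ K M) : g ∈ M := by
  obtain ⟨y, hy, hy1, p, hp, hyp⟩ := exists_prime_power_mem hx1
  haveI := Fact.mk hp
  have h1 := h.K_home hM (zpowers_le.mpr hx hy) hy1 hyp
  have h2 : g * y * g⁻¹ ∈ K M := by
    obtain ⟨m, rfl⟩ := mem_zpowers_iff.mp hy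
    rw [← conj_zpow]
    exact zpow_mem hg m
  have h3 := h.K_home hM h2 (mt conj_eq_one_iff.mp hy1) (conj_isPGroup hyp g)
  exact h.self_normalizing hM (fun e => hx1 (by have h0 := K_le _ hx; rw [e] at h0; exact mem_bot.mp h0))
    (h.home_unique (h.home_conj h1 g) h3)

theorem K_disjoint (h : Setting S k A) {L M : Subgroup S} (hL : IsCoatom L) (hM : IsCoatom M)
    (hne : L ≠ M) {x : S} (hxL : x ∈ K L) (hxM : x ∈ K M) : x = 1 := by
  by_contra hx1
  obtain ⟨y, hy, hy1, p, hp, hyp⟩ := exists_prime_power_mem hx1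
  haveI := Fact.mk hp
  exact hne (h.home_unique (h.K_home hL (zpowers_le.mpr hxL hy) hy1 hyp)
    (h.K_home hM (zpowers_le.mpr hxM hy) hy1 hyp))

theorem inter_nilpotent (h : Setting S k A) {L M : Subgroup S} (hL : IsCoatom L) (hM : IsCoatom M)
    (hne : L ≠ M) : Group.IsNilpotent ↥(L ⊓ M) := by
  haveI := h.psol L hL.1
  haveI := h.psol M hM.1
  haveI := ((h.good.subgroup L).solvable_structure).1
  haveI := ((h.good.subgroup M).solvable_structure).1
  let f : ↥(L ⊓ M) →* (L ⧸ Cfsg.fittingSubgroup L) × (M ⧸ Cfsg.fittingSubgroup M) :=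
    MonoidHom.prod ((QuotientGroup.mk' _).comp (inclusion inf_le_left))
      ((QuotientGroup.mk' _).comp (inclusion inf_le_right))
  have hinj : Function.Injective f := (injective_iff_map_eq_one f).mpr fun x hx => ?_
  · exact Group.nilpotent_of_mulEquiv (MonoidHom.ofInjective hinj).symm
  have h1 := congrArg Prod.fst hx
  have h2 := congrArg Prod.snd hx
  exact Subtype.ext (h.K_disjoint hL hM hne
    ⟨_, (QuotientGroup.eq_one_iff _).mp h1, rfl⟩ ⟨_, (QuotientGroup.eq_one_iff _).mp h2, rfl⟩)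

theorem nilpotent_le_home (h : Setting S k A) {W : Subgroup S} (hW : Group.IsNilpotent W) {p : ℕ}
    [Fact p.Prime] {y : S} (hy : y ∈ W) (hyp : IsPGroup p (zpowers y)) {M : Subgroup S} (hM : Home y M) :
    W ≤ M := by
  haveI := hW
  obtain ⟨hy1, q, hq, P, hP, rfl⟩ := hM
  obtain rfl := prime_eq hy1 hyp (zpowers_isPGroup P.2 hP)
  intro w hw
  obtain ⟨R⟩ : Nonempty (Sylow p W) := inferInstance
  haveI : (R : Subgroup W).Normal := inferInstance
  obtain ⟨Q, hQ⟩ := (R.2.map W.subtype).exists_le_sylow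
  have hmemR : ∀ z : W, IsPGroup p (zpowers (z : S)) → z ∈ (R : Subgroup W) := by
    intro z hz
    obtain ⟨i, hi⟩ := pow_eq_one_of_isPGroup hz
    have hzW : IsPGroup p (zpowers z) := by
      refine IsPGroup.iff_card.mpr ?_
      rw [Nat.card_zpowers]
      obtain ⟨j, -, hj⟩ := (Nat.dvd_prime_pow Fact.out).mp (orderOf_dvd_of_pow_eq_one
        (show z ^ p ^ i = 1 from Subtype.ext hi))
      exact ⟨j, hj⟩
    obtain ⟨R', hR'⟩ := hzW.exists_le_sylow
    haveI := Sylow.unique_of_normal R inferInstance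
    rw [Subsingleton.elim R' R] at hR'
    exact hR' (mem_zpowers z)
  have hyQ : y ∈ (Q : Subgroup S) := hQ (mem_map_of_mem W.subtype (hmemR ⟨y, hy⟩ hyp))
  have hwyQ : w * y * w⁻¹ ∈ (Q : Subgroup S) := by
    refine hQ ?_
    exact ⟨⟨w, hw⟩ * ⟨y, hy⟩ * ⟨w, hw⟩⁻¹,
      (inferInstance : (R : Subgroup W).Normal).conj_mem _ (hmemR ⟨y, hy⟩ hyp) ⟨w, hw⟩, rfl⟩
  rw [h.sylow_eq hy1 Q P hyQ hP] at hwyQ
  exact (h.sylow_normalizer ((dvd_of_mem P.2 hP hy1).trans (orderOf_dvd_natCard y)) P).2.2.1 y hP hy1 w hwyQ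

end Setting

end Cfsg.Lib.CommValues
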