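import Cfsg.Agent.CommValues.Solvable
import Cfsg.Agent.SolvStruct.Zipper
import Cfsg.Agent.SolvStruct.Subnormalizer
import Cfsg.Agent.Transfer.Frobenius
import Mathlib.GroupTheory.Focal

/-!
Local structure of a simple group whose proper subgroups are solvable and whose values centralise the
normalised subgroups of coprime order: Sylow normalisers are maximal and their centralisers are local.
-/

set_option autoImplicit false
set_option linter.style.haveILetI false
set_option linter.unusedSectionVars false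
set_option linter.unusedVariables false

namespace Cfsg.Lib.CommValues

open Subgroup
open scoped commutatorElement Pointwise

universe u

/-- The setting of the local analysis. -/
structure Setting (S : Type u) [Group S] (k : ℕ) (A : Set S) : Prop where
  simple : IsSimpleGroup S
  nsol : ¬ Group.IsSolvable S
  psol : ∀ H : Subgroup S, H ≠ ⊤ → Group.IsSolvable H
  good : Good k A

variable {S : Type u} [Group S] [Finite S] {k : ℕ} {A : Set S}

namespace Setting

theorem eq_bot_of_normal (h : Setting S k A) {N : Subgroup S} (hN : N.Normal) (hne : N ≠ ⊤) : N = ⊥ :=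
  (h.simple.eq_bot_or_eq_top_of_normal N hN).resolve_right hne

theorem nilpotent_ne_top (h : Setting S k A) {H : Subgroup S} (hH : Group.IsNilpotent H) : H ≠ ⊤ := by
  rintro rfl
  haveI := hH
  exact h.nsol (solvable_of_surjective (f := (⊤ : Subgroup S).subtype) fun x => ⟨⟨x, mem_top x⟩, rfl⟩)

theorem pgroup_ne_top (h : Setting S k A) {p : ℕ} [Fact p.Prime] {H : Subgroup S} (hH : IsPGroup p H) :
    H ≠ ⊤ := h.nilpotent_ne_top hH.isNilpotent

theorem normalizer_ne_top (h : Setting S k A) {H : Subgroup S} (hb : H ≠ ⊥) (ht : H ≠ ⊤) :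
    normalizer (H : Set S) ≠ ⊤ := fun e => hb (h.eq_bot_of_normal (normalizer_eq_top_iff.mp e) ht)

theorem center_eq_bot (h : Setting S k A) : center S = ⊥ := by
  refine h.eq_bot_of_normal inferInstance fun e => h.nsol ?_
  exact Group.isSolvable_of_comm fun a b => (mem_center_iff.mp (e.ge (mem_top b)) a)

theorem centralizer_ne_top (h : Setting S k A) {x : S} (hx : x ≠ 1) : centralizer ({x} : Set S) ≠ ⊤ := by
  intro e
  have : x ∈ center S := mem_center_iff.mpr fun g => (mem_centralizer_singleton_iff.mp (e.ge (mem_top g)))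
  rw [h.center_eq_bot, mem_bot] at this
  exact hx this

/-- in a proper subgroup a value of prime power order lies in the core -/
theorem value_mem_core (h : Setting S k A) {H : Subgroup S} (hH : H ≠ ⊤) {q : ℕ} [Fact q.Prime] {v : S}
    (hv : v ∈ A) (hvH : v ∈ H) (hvq : IsPGroup q (zpowers v)) :
    (⟨v, hvH⟩ : H) ∈ Cfsg.pCore q H := by
  haveI := h.psol H hH
  refine ((h.good.subgroup H).solvable_structure).2 ⟨v, hvH⟩ hv q ?_
  obtain ⟨i, hi⟩ := pow_eq_one_of_isPGroup hvq
  refine IsPGroup.iff_card.mpr ?_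
  rw [Nat.card_zpowers]
  obtain ⟨j, -, hj⟩ := (Nat.dvd_prime_pow Fact.out).mp (orderOf_dvd_of_pow_eq_one
    (show (⟨v, hvH⟩ : H) ^ q ^ i = 1 from Subtype.ext hi))
  exact ⟨j, hj⟩

theorem value_subnormal (h : Setting S k A) {H : Subgroup S} (hH : H ≠ ⊤) {q : ℕ} [Fact q.Prime] {v : S}
    (hv : v ∈ A) (hvH : v ∈ H) (hvq : IsPGroup q (zpowers v)) :
    ((zpowers v).subgroupOf H).IsSubnormal := by
  have hc : IsPGroup q (Cfsg.pCore q H) := (Cfsg.Lib.Components.pCore_normal_and_isPGroup q).2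
  haveI : Group.IsNilpotent (Cfsg.pCore q H) := hc.isNilpotent
  have hle : (zpowers v).subgroupOf H ≤ Cfsg.pCore q H := by
    rintro ⟨x, hx⟩ hx'
    obtain ⟨m, rfl⟩ := mem_zpowers_iff.mp (show x ∈ zpowers v from hx')
    exact zpow_mem (h.value_mem_core hH hv hvH hvq) m
  exact Subgroup.IsSubnormal.trans hle (Cfsg.Lib.Subnormalizer.isSubnormal_of_nilpotent _)
    (Cfsg.Lib.Components.pCore_normal' q).isSubnormal

/-- a value of prime power order lies in exactly one maximal subgroup -/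
theorem unique_maximal (h : Setting S k A) {q : ℕ} [Fact q.Prime] {v : S} (hv : v ∈ A) (hv1 : v ≠ 1)
    (hvq : IsPGroup q (zpowers v)) : ∃! M : Subgroup S, IsCoatom M ∧ v ∈ M := by
  set U : Set (Subgroup S) := {M | IsCoatom M ∧ v ∈ M} with hU
  have hUne : U.Nonempty := by
    obtain ⟨M, hM, hle⟩ := (eq_top_or_exists_le_coatom (zpowers v)).resolve_left (h.pgroup_ne_top hvq)
    exact ⟨M, hM, hle (mem_zpowers v)⟩
  let SS : Subgroup S → Set (Subgroup S) := fun V =>
    {B | (∃ g : S, B = MulAut.conj g • zpowers v) ∧ B ≤ V ∧ (B.subgroupOf V).IsSubnormal}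
  have hsub : ∀ V ∈ U, ∀ B : Subgroup S, (∃ g : S, B = MulAut.conj g • zpowers v) → B ≤ V → B ∈ SS V := by
    rintro V hV B ⟨g, rfl⟩ hBV
    refine ⟨⟨g, rfl⟩, hBV, ?_⟩
    have e : MulAut.conj g • zpowers v = zpowers (g * v * g⁻¹) := by
      rw [Cfsg.Lib.SolvStruct.conj_smul_eq_map, MonoidHom.map_zpowers]; rfl
    rw [e] at hBV ⊢
    exact h.value_subnormal hV.1.1 (h.good.conj_mem v hv g) (hBV (mem_zpowers _)) (conj_isPGroup hvq g)
  have h3 : ∀ V ∈ U, ∀ W ∈ U, ∃ X ∈ U, normalizer ((sSup (SS V ∩ SS W) : Subgroup S) : Set S) ≤ X := by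
    intro V hV W hW
    set T : Subgroup S := sSup (SS V ∩ SS W)
    have hvT : v ∈ T := by
      have h1 : zpowers v = MulAut.conj (1 : S) • zpowers v := by simp
      exact (le_sSup (show zpowers v ∈ SS V ∩ SS W from
        ⟨hsub V hV _ ⟨1, h1⟩ (zpowers_le.mpr hV.2), hsub W hW _ ⟨1, h1⟩ (zpowers_le.mpr hW.2)⟩) :
        zpowers v ≤ T) (mem_zpowers v)
    have hTt : T ≠ ⊤ := fun e => hV.1.1 (top_le_iff.mp (e ▸ sSup_le fun B hB => hB.1.2.1))
    have hTb : T ≠ ⊥ := fun e => hv1 (by rw [e] at hvT; exact mem_bot.mp hvT)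
    obtain ⟨X, hX, hle⟩ := (eq_top_or_exists_le_coatom (normalizer (T : Set S))).resolve_left
      (h.normalizer_ne_top hTb hTt)
    exact ⟨X, ⟨hX, hle (le_normalizer hvT)⟩, hle⟩
  obtain ⟨M, hM, hall⟩ := Cfsg.Lib.SolvStruct.zipper (zpowers v) U hUne SS (fun V B => Iff.rfl)
    (fun V hV W _ B hB hBV => hsub V hV B hB.1 hBV) h3
  refine ⟨M, hM, fun M' hM' => ?_⟩
  rcases eq_or_lt_of_le (hall M' hM') with e | e
  · exact e
  · exact absurd (hM'.1.2 M e) hM.1.1

theorem eq_of_value (h : Setting S k A) {q : ℕ} [Fact q.Prime] {v : S} (hv : v ∈ A) (hv1 : v ≠ 1)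
    (hvq : IsPGroup q (zpowers v)) {M N : Subgroup S} (hM : IsCoatom M) (hvM : v ∈ M) (hN : IsCoatom N)
    (hvN : v ∈ N) : M = N :=
  (h.unique_maximal hv hv1 hvq).unique ⟨hM, hvM⟩ ⟨hN, hvN⟩

/-- every Sylow subgroup has a nontrivial central value -/
theorem exists_central_value (h : Setting S k A) {q : ℕ} [Fact q.Prime] (hq : q ∣ Nat.card S)
    (P : Sylow q S) :
    ∃ z ∈ A, z ∈ (P : Subgroup S) ∧ z ≠ 1 ∧ ∀ w ∈ (P : Subgroup S), w * z = z * w := by
  classical
  -- some nontrivial value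
  obtain ⟨v, hv, hvP, hv1⟩ : ∃ v ∈ A, v ∈ (P : Subgroup S) ∧ v ≠ 1 := by
    have hnc : ¬ Cfsg.HasNormalPComplement q S := by
      rintro ⟨R, N, hN, hc⟩
      rcases h.simple.eq_bot_or_eq_top_of_normal N hN with e | e
      · rw [e, isComplement'_bot_left] at hc
        exact h.pgroup_ne_top R.2 hc
      · rw [e, isComplement'_top_left] at hc
        exact R.ne_bot_of_dvd_card hq hc
    by_contra hno
    push Not at hno
    refine hnc (Cfsg.Lib.Transfer.hasNormalPComplement_of_frobenius fun Q hQ g hg hcop => fun r hr => ?_)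
    refine (commute_of_it hQ hg ((Fact.out : q.Prime).coprime_iff_not_dvd.mp hcop.symm) (n := k) hr ?_).eq
    set c := it g r k with hc
    have hcA : c ∈ A := h.good.it_mem q Q hQ r hr g hg
    have hcQ : IsPGroup q (zpowers c) := zpowers_isPGroup hQ (CommValues.it_mem hg hr k)
    obtain ⟨R, hR⟩ := hcQ.exists_le_sylow
    obtain ⟨a, ha⟩ := MulAction.exists_smul_eq S R P
    have h1 : a * c * a⁻¹ ∈ (P : Subgroup S) := by
      rw [← ha, Sylow.coe_subgroup_smul]
      exact mem_map_of_mem (MulAut.conj a).toMonoidHom (hR (mem_zpowers c))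
    exact conj_eq_one_iff.mp (hno _ (h.good.conj_mem c hcA a) h1)
  -- descend
  haveI : Group.IsNilpotent (P : Subgroup S) := P.2.isNilpotent
  obtain ⟨n, hn⟩ := (Subgroup.isNilpotent_iff_lowerCentralSeries (P : Subgroup S)).mp inferInstance
  let good : ℕ → Prop := fun i => ∀ w ∈ A, w ∈ (P : Subgroup S).lowerCentralSeries i → w = 1
  have hex : ∃ i, good i := ⟨n, fun w _ hw => by rw [hn] at hw; exact mem_bot.mp hw⟩
  have h0 : ¬ good 0 := fun h0 => hv1 (h0 v hv hvP)
  obtain ⟨m, hm⟩ : ∃ m, Nat.find hex = m + 1 :=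
    Nat.exists_eq_succ_of_ne_zero fun e => h0 (e ▸ Nat.find_spec hex)
  have hnot : ¬ good m := Nat.find_min hex (by omega)
  simp only [good, not_forall] at hnot
  obtain ⟨z, hz, hzm, hz1⟩ := hnot
  have hzP : z ∈ (P : Subgroup S) := by
    have := (P : Subgroup S).lowerCentralSeries_antitone (Nat.zero_le m) hzm
    exact this
  refine ⟨z, hz, hzP, hz1, fun w hw => (commutatorElement_eq_one_iff_mul_comm.mp ?_).symm⟩
  have := Nat.find_spec hex
  rw [hm] at this
  exact this _ (h.good.comm_mem q P P.2 z hz hzP w hw) (commutator_mem_commutator hzm hw)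

theorem sylow_focal (h : Setting S k A) {q : ℕ} [Fact q.Prime] (P : Sylow q S) (D : Subgroup S)
    (hD : ∀ a ∈ (P : Subgroup S), ∀ u : S, u * a * u⁻¹ ∈ (P : Subgroup S) → a⁻¹ * (u * a * u⁻¹) ∈ D) :
    (P : Subgroup S) ≤ D := by
  have hc : _root_.commutator S = ⊤ :=
    (h.simple.eq_bot_or_eq_top_of_normal _ inferInstance).resolve_left fun hb => h.nsol (by
      refine Group.isSolvable_of_comm fun a b => commutatorElement_eq_one_iff_mul_comm.mp ?_
      rw [← mem_bot, ← hb]
      exact commutator_mem_commutator (mem_top a) (mem_top b))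
  have := commutator_inf_eq_focalSubgroup P
  rw [hc, top_inf_eq] at this
  rw [this, focalSubgroup_def, closure_le]
  rintro g ⟨hg, x, hx, u, rfl⟩
  have hu : u * x⁻¹ * u⁻¹ ∈ (P : Subgroup S) := by
    have := mul_mem (inv_mem hx) hg
    rwa [commutatorElement_def, show x⁻¹ * (x * u * x⁻¹ * u⁻¹) = u * x⁻¹ * u⁻¹ by group] at this
  have := hD x⁻¹ (inv_mem hx) u hu
  rwa [inv_inv, show x * (u * x⁻¹ * u⁻¹) = ⁅x, u⁆ by rw [commutatorElement_def]; group] at this

omit [Finite S] in
theorem image_trivial {M Q : Type*} [Group M] [Finite M] [Group Q] [Finite Q] [Group.IsNilpotent Q]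
    {q : ℕ} [Fact q.Prime] (f : M →* Q) (hf : Function.Surjective f) (P : Sylow q M)
    (hP : (P : Subgroup M) ≤ commutator M) : (P : Subgroup M).map f = ⊥ := by
  obtain ⟨N, hN, hc, j, hj⟩ := Cfsg.Lib.Transfer.hasNormalPComplement_iff.mp
    (Cfsg.Lib.Splitting.hasNormalPComplement_of_nilpotent (G := Q) q)
  haveI := hN
  set g := (QuotientGroup.mk' N).comp f
  have hgs : Function.Surjective g := (QuotientGroup.mk'_surjective N).comp hf
  have hp' : IsPGroup q (Q ⧸ N) := Cfsg.Lib.Transfer.isPGroup_quotient_of_index N hj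
  have htop : (P : Subgroup M).map g = ⊤ := ((P.mapSurjective hgs).3 (hp'.to_subgroup ⊤) le_top).symm
  have hperf : commutator (Q ⧸ N) = ⊤ := by
    rw [eq_top_iff, ← htop]
    refine (map_mono hP).trans ?_
    rw [commutator_def, commutator_def, map_commutator, map_top_of_surjective g hgs]
  haveI : Group.IsNilpotent (Q ⧸ N) := hp'.isNilpotent
  have hsub : Subsingleton (Q ⧸ N) := by
    by_contra hns
    rw [not_subsingleton_iff_nontrivial] at hns
    exact (Group.IsSolvable.commutator_lt_top_of_nontrivial (G := Q ⧸ N)).ne hperf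
  rw [eq_bot_iff]
  intro y hy
  obtain ⟨i, hi⟩ := IsPGroup.iff_orderOf.mp (P.2.map f) ⟨y, hy⟩
  rw [orderOf_mk] at hi
  have hyN : y ∈ N := (QuotientGroup.eq_one_iff y).mp (Subsingleton.elim _ _)
  have hcop := (Cfsg.Lib.Transfer.mem_iff_coprime_orderOf hc hj y).mp hyN
  rw [hi] at hcop
  rw [mem_bot, ← orderOf_eq_one_iff, hi]
  rcases Nat.eq_zero_or_pos i with rfl | hpos
  · rfl
  · exact absurd ((Nat.coprime_pow_left_iff hpos q q).mp hcop) (by
      rw [Nat.coprime_self]; exact (Fact.out : q.Prime).ne_one)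

/-- The Sylow normalisers. -/
theorem sylow_normalizer (h : Setting S k A) {q : ℕ} [Fact q.Prime] (hq : q ∣ Nat.card S) (P : Sylow q S) :
    IsCoatom (normalizer ((P : Subgroup S) : Set S)) ∧
      (∀ x ∈ (P : Subgroup S), x ≠ 1 → centralizer ({x} : Set S) ≤ normalizer ((P : Subgroup S) : Set S)) ∧
      (∀ x ∈ (P : Subgroup S), x ≠ 1 → ∀ g : S, g * x * g⁻¹ ∈ (P : Subgroup S) →
        g ∈ normalizer ((P : Subgroup S) : Set S)) ∧
      (P : Subgroup S).subgroupOf (normalizer ((P : Subgroup S) : Set S)) ≤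
        commutator ↥(normalizer ((P : Subgroup S) : Set S)) := by
  obtain ⟨z, hz, hzP, hz1, hzc⟩ := h.exists_central_value hq P
  have hzq : IsPGroup q (zpowers z) := zpowers_isPGroup P.2 hzP
  obtain ⟨M, ⟨hM, hzM⟩, huniq⟩ := h.unique_maximal hz hz1 hzq
  have hCM : ∀ x : S, x ≠ 1 → z ∈ centralizer ({x} : Set S) → centralizer ({x} : Set S) ≤ M := by
    intro x hx hzx
    obtain ⟨N, hN, hle⟩ := (eq_top_or_exists_le_coatom _).resolve_left (h.centralizer_ne_top hx)
    exact hle.trans (huniq N ⟨hN, hle hzx⟩).le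
  have hPM : (P : Subgroup S) ≤ M := fun x hx => by
    by_cases hx1 : x = 1
    · subst hx1; exact one_mem M
    exact hCM x hx1 (mem_centralizer_singleton_iff.mpr (hzc x hx).symm) (mem_centralizer_singleton_iff.mpr rfl)
  have hTI : ∀ x ∈ (P : Subgroup S), x ≠ 1 → ∀ g : S, g * x * g⁻¹ ∈ (P : Subgroup S) → g ∈ M := by
    intro x hx hx1 g hgx
    have hy1 : g * x * g⁻¹ ≠ 1 := mt conj_eq_one_iff.mp hx1
    have hle := hCM _ hy1 (mem_centralizer_singleton_iff.mpr (hzc _ hgx).symm)
    have hzg : g * z * g⁻¹ ∈ centralizer ({g * x * g⁻¹} : Set S) := by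
      rw [mem_centralizer_singleton_iff,
        show g * z * g⁻¹ * (g * x * g⁻¹) = g * (z * x) * g⁻¹ by group,
        show g * x * g⁻¹ * (g * z * g⁻¹) = g * (x * z) * g⁻¹ by group, hzc x hx]
    have hz' : g * z * g⁻¹ ∈ M := hle hzg
    have heq : M.map (MulAut.conj g).toMonoidHom = M :=
      h.eq_of_value (h.good.conj_mem z hz g) (mt conj_eq_one_iff.mp hz1) (conj_isPGroup hzq g)
        ((OrderIso.isCoatom_iff (MulAut.conj g).mapSubgroup M).mpr hM) (mem_map_of_mem _ hzM) hM hz'
    have hgN : g ∈ normalizer (M : Set S) := Cfsg.Lib.Transfer.map_conj_eq_self_iff.mp heq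
    have hNt : normalizer (M : Set S) ≠ ⊤ := h.normalizer_ne_top (fun e => hz1 (by
      rw [e] at hzM; exact mem_bot.mp hzM)) hM.1
    rcases eq_or_lt_of_le (le_normalizer (H := M)) with e | e
    · exact e ▸ hgN
    · exact absurd (hM.2 _ e) hNt
  -- the Sylow subgroup is normal in `M`
  haveI := h.psol M hM.1
  have hnil := ((h.good.subgroup M).solvable_structure).1
  let PM : Sylow q M := P.subtype hPM
  have hPMc : (PM : Subgroup M) ≤ commutator M := by
    have hfoc : (P : Subgroup S) ≤ (commutator M).map M.subtype := by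
      refine h.sylow_focal P _ fun a ha u hu => ?_
      by_cases ha1 : a = 1
      · subst ha1; simp [one_mem]
      have huM := hTI a ha ha1 u hu
      refine ⟨⁅(⟨a, hPM ha⟩ : M)⁻¹, ⟨u, huM⟩⁆, commutator_mem_commutator (mem_top _) (mem_top _), ?_⟩
      simp only [commutatorElement_def, coe_subtype, coe_mul, coe_inv, inv_inv]
      group
    intro x hx
    obtain ⟨y, hy, hyx⟩ := hfoc (show (x : S) ∈ (P : Subgroup S) from hx)
    exact Subtype.ext hyx ▸ hy
  haveI := hnil
  have himg := image_trivial (QuotientGroup.mk' (Cfsg.fittingSubgroup M)) (QuotientGroup.mk'_surjective _)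
    PM hPMc
  rw [Subgroup.map_eq_bot_iff, QuotientGroup.ker_mk'] at himg
  have hcore : (PM : Subgroup M) = Cfsg.pCore q M :=
    (PM.3 (Cfsg.Lib.Components.pCore_normal_and_isPGroup q).2 fun x hx =>
      fitting_le_pCore (himg hx) (zpowers_isPGroup PM.2 hx)).symm
  have hMN : M ≤ normalizer ((P : Subgroup S) : Set S) := by
    haveI : ((P : Subgroup S).subgroupOf M).Normal := by
      rw [show (P : Subgroup S).subgroupOf M = (PM : Subgroup M) from rfl, hcore]; infer_instance
    exact normal_subgroupOf_iff_le_normalizer hPM |>.mp inferInstance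
  have hNt : normalizer ((P : Subgroup S) : Set S) ≠ ⊤ :=
    h.normalizer_ne_top (P.ne_bot_of_dvd_card hq) (h.pgroup_ne_top P.2)
  obtain rfl : M = normalizer ((P : Subgroup S) : Set S) := by
    rcases eq_or_lt_of_le hMN with e | e
    · exact e
    · exact absurd (hM.2 _ e) hNt
  exact ⟨hM, fun x hx hx1 => hCM x hx1 (mem_centralizer_singleton_iff.mpr (hzc x hx).symm), hTI, hPMc⟩

end Setting

end Cfsg.Lib.CommValues
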