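import Cfsg.Agent.CommValues.Basic
import Cfsg.Agent.Coprime.Fitting
import Cfsg.Agent.Splitting.Basic
import Cfsg.Agent.OddLocal.SmallStructure

/-!
The solvable case: values of prime power order lie in the Fitting subgroup.
-/

set_option autoImplicit false
set_option linter.style.haveILetI false
set_option linter.unusedSectionVars false
set_option linter.unusedVariables false

namespace Cfsg.Lib.CommValues

open Subgroup
open scoped commutatorElement

universe u

variable {G : Type u} [Group G] [Finite G]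

theorem sylow_elem {q : ℕ} [Fact q.Prime] {K : Subgroup G} (Q : Sylow q K) {y : G}
    (hy : y ∈ (Q : Subgroup K).map K.subtype) : y ∈ K ∧ IsPGroup q (zpowers y) :=
  ⟨map_subtype_le _ hy, (Q.2.map K.subtype).to_le (zpowers_le.mpr hy)⟩

/-- A subgroup is contained in another one once its elements of prime power order are. -/
theorem le_of_prime_powers {K S : Subgroup G}
    (h : ∀ (q : ℕ) [Fact q.Prime], ∀ y ∈ K, IsPGroup q (zpowers y) → y ∈ S) : K ≤ S := by
  refine Cfsg.Lib.Coprime.le_of_forall_sylow fun q hq => ?_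
  haveI := Fact.mk hq
  obtain ⟨Q⟩ : Nonempty (Sylow q K) := inferInstance
  exact ⟨Q, fun y hy => h q y (sylow_elem Q hy).1 (sylow_elem Q hy).2⟩

theorem pow_eq_one_of_isPGroup {q : ℕ} {x : G} (hx : IsPGroup q (zpowers x)) :
    ∃ i : ℕ, x ^ q ^ i = 1 := by
  obtain ⟨i, hi⟩ := hx ⟨x, mem_zpowers x⟩
  exact ⟨i, by simpa [Subtype.ext_iff] using hi⟩

theorem fitting_le_pCore {q : ℕ} [Fact q.Prime] {x : G} (hx : x ∈ Cfsg.fittingSubgroup G)
    (hxq : IsPGroup q (zpowers x)) : x ∈ Cfsg.pCore q G := by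
  obtain ⟨i, hi⟩ := pow_eq_one_of_isPGroup hxq
  exact Cfsg.Lib.OddP.mem_pCore_of_mem_fitting hx hi

theorem pCore_le_fitting (q : ℕ) [Fact q.Prime] : Cfsg.pCore q G ≤ Cfsg.fittingSubgroup G := by
  haveI := (Cfsg.Lib.Components.pCore_normal_and_isPGroup (G := G) q).1
  exact Cfsg.Lib.Components.le_fitting (Cfsg.Lib.Components.pCore_normal_and_isPGroup (G := G) q).2.isNilpotent

/-- A Sylow subgroup of a normal subgroup in which the other prime power elements are central. -/
theorem mem_pCore_of_central {p : ℕ} [Fact p.Prime] (C : Subgroup G) [hC : C.Normal]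
    (hcen : ∀ (r : ℕ) [Fact r.Prime], r ≠ p → ∀ y ∈ C, IsPGroup r (zpowers y) →
      ∀ c ∈ C, c * y = y * c)
    {x : G} (hx : x ∈ C) (hxp : IsPGroup p (zpowers x)) : x ∈ Cfsg.pCore p G := by
  obtain ⟨Q⟩ : Nonempty (Sylow p C) := inferInstance
  haveI hQn : (Q : Subgroup C).Normal := by
    rw [← normalizer_eq_top_iff, ← index_eq_one, Nat.eq_one_iff_not_exists_prime_dvd]
    intro r hr hdvd
    haveI := Fact.mk hr
    by_cases hrp : r = p
    · subst hrp
      exact Q.not_dvd_index (hdvd.trans (index_dvd_of_le le_normalizer))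
    · obtain ⟨R⟩ : Nonempty (Sylow r C) := inferInstance
      refine R.not_dvd_index (hdvd.trans (index_dvd_of_le fun z hz => mem_normalizer_iff.mpr fun w => ?_))
      have hzp : IsPGroup r (zpowers (z : G)) := by
        have := (R.2.to_le (zpowers_le.mpr hz)).map C.subtype
        rwa [MonoidHom.map_zpowers] at this
      have : w * z = z * w := Subtype.ext (hcen r hrp (z : G) z.2 hzp (w : G) w.2)
      rw [← this, mul_assoc, mul_inv_cancel, mul_one]
  haveI : (Q : Subgroup C).Characteristic := Sylow.characteristic_of_normal Q hQn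
  have hz : IsPGroup p (zpowers (⟨x, hx⟩ : C)) := by
    obtain ⟨i, hi⟩ := pow_eq_one_of_isPGroup hxp
    refine IsPGroup.iff_card.mpr ?_
    rw [Nat.card_zpowers]
    obtain ⟨j, -, hj⟩ := (Nat.dvd_prime_pow Fact.out).mp (orderOf_dvd_of_pow_eq_one
      (show (⟨x, hx⟩ : C) ^ p ^ i = 1 from Subtype.ext hi))
    exact ⟨j, hj⟩
  obtain ⟨R, hR⟩ := hz.exists_le_sylow
  haveI := Sylow.unique_of_normal Q hQn
  rw [Subsingleton.elim R Q] at hR
  exact Cfsg.Lib.Components.le_pCore (Q.2.map C.subtype) ⟨⟨x, hx⟩, hR (mem_zpowers _), rfl⟩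

variable {k : ℕ} {A : Set G}

/-- A value of `q`-power order in a normal `q`-extension of the Fitting subgroup lies in `O_q`. -/
theorem Good.mem_pCore_of_extension (h : Good k A) {q : ℕ} [Fact q.Prime] (E : Subgroup G) [E.Normal]
    (hE : ∀ (r : ℕ) [Fact r.Prime], r ≠ q → ∀ y ∈ E, IsPGroup r (zpowers y) → y ∈ Cfsg.fittingSubgroup G)
    {v : G} (hv : v ∈ A) (hvE : v ∈ E) (hvq : IsPGroup q (zpowers v)) : v ∈ Cfsg.pCore q G := by
  let Z : Subgroup G := ⨅ p : {p : ℕ // p.Prime ∧ p ≠ q}, centralizer (Cfsg.pCore p.1 G : Set G)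
  haveI : Z.Normal := normal_iInf_normal fun p => inferInstance
  refine mem_pCore_of_central (E ⊓ Z) ?_ (mem_inf.mpr ⟨hvE, mem_iInf.mpr fun p => ?_⟩) hvq
  · intro r _ hr y hy hyr c hc
    exact ((mem_iInf.mp hc.2 ⟨r, Fact.out, hr⟩) y (fitting_le_pCore (hE r hr y hy.1 hyr) hyr)).symm
  · haveI := Fact.mk p.2.1
    refine h.cent v hv p.1 q p.2.2 hvq _ (Cfsg.Lib.Components.pCore_normal_and_isPGroup p.1).2 ?_
    rw [normalizer_eq_top]
    exact mem_top v

/-- In a solvable group the values of prime power order lie in the Fitting subgroup, whose factor group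
is nilpotent. -/
theorem Good.solvable_structure [Group.IsSolvable G] (h : Good k A) :
    Group.IsNilpotent (G ⧸ Cfsg.fittingSubgroup G) ∧
      ∀ v ∈ A, ∀ (q : ℕ) [Fact q.Prime], IsPGroup q (zpowers v) → v ∈ Cfsg.pCore q G := by
  set F := Cfsg.fittingSubgroup G with hF
  set f := QuotientGroup.mk' F with hf
  have hfs : Function.Surjective f := QuotientGroup.mk'_surjective F
  have hker : ∀ {x : G}, f x = 1 ↔ x ∈ F := fun {x} => QuotientGroup.eq_one_iff x
  have hcoreP : ∀ q : ℕ, IsPGroup q (Cfsg.pCore q (G ⧸ F)) := fun q =>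
    (Cfsg.Lib.Components.pCore_normal_and_isPGroup q).2
  -- prime power elements outside the prime of an extension
  have hout : ∀ (q : ℕ) [Fact q.Prime] (r : ℕ) [Fact r.Prime], r ≠ q →
      ∀ y ∈ (Cfsg.pCore q (G ⧸ F)).comap f, IsPGroup r (zpowers y) → y ∈ F := by
    intro q _ r _ hr y hy hyr
    refine hker.mp ?_
    have h1 : IsPGroup r (zpowers (f y)) := by
      have := hyr.map f
      rwa [MonoidHom.map_zpowers] at this
    have h2 := orderOf_coprime_of_mem (hcoreP q) hy (not_dvd_of_isPGroup (Ne.symm hr) h1)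
    exact orderOf_eq_one_iff.mp ((Nat.coprime_self _).mp h2)
  -- the action on `O_q` of the quotient is nilpotent
  have hengel : ∀ (q : ℕ) [Fact q.Prime], ∀ d ∈ Cfsg.pCore q (G ⧸ F), ∀ x : G ⧸ F, it x d k = 1 := by
    intro q _ d hd x
    set E := (Cfsg.pCore q (G ⧸ F)).comap f
    obtain ⟨Q⟩ : Nonempty (Sylow q E) := inferInstance
    set QG : Subgroup G := (Q : Subgroup E).map E.subtype with hQG
    have hE : E ≤ QG ⊔ F := by
      refine Cfsg.Lib.Coprime.le_of_forall_sylow fun r hr => ?_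
      haveI := Fact.mk hr
      by_cases hrq : r = q
      · subst hrq; exact ⟨Q, le_sup_left⟩
      · obtain ⟨R⟩ : Nonempty (Sylow r E) := inferInstance
        exact ⟨R, fun y hy => mem_sup_right (hout q r hrq y (sylow_elem R hy).1 (sylow_elem R hy).2)⟩
    have hmapF : F.map f = ⊥ := by
      rw [Subgroup.map_eq_bot_iff, hf, QuotientGroup.ker_mk']
    have himg : Cfsg.pCore q (G ⧸ F) ≤ QG.map f := by
      rw [← map_comap_eq_self_of_surjective hfs (Cfsg.pCore q (G ⧸ F))]
      refine (map_mono hE).trans ?_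
      rw [Subgroup.map_sup, hmapF, sup_bot_eq]
    have hN : (normalizer (QG : Set G)).map f = ⊤ := by
      have h1 : normalizer (QG : Set G) ⊔ E = ⊤ := Sylow.normalizer_sup_eq_top Q
      have h2 := congrArg (Subgroup.map f) h1
      rw [Subgroup.map_sup, map_top_of_surjective f hfs,
        map_comap_eq_self_of_surjective hfs (Cfsg.pCore q (G ⧸ F))] at h2
      rwa [sup_eq_left.mpr (himg.trans (map_mono le_normalizer))] at h2
    obtain ⟨u, hu, rfl⟩ := himg hd
    obtain ⟨g, hg, rfl⟩ := hN.ge (mem_top x)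
    rw [← map_it]
    refine hker.mpr ?_
    have hm : it g u k ∈ QG := CommValues.it_mem hg hu k
    exact pCore_le_fitting q (h.mem_pCore_of_extension E (fun r _ hr y hy hyr => hout q r hr y hy hyr)
      (h.it_mem q QG (Q.2.map E.subtype) u hu g hg) (map_subtype_le _ hm)
      (zpowers_isPGroup (Q.2.map E.subtype) hm))
  -- coprime elements centralise
  have hcomm : ∀ (q r : ℕ) [Fact q.Prime] [Fact r.Prime], r ≠ q → ∀ y : G ⧸ F, IsPGroup r (zpowers y) →
      y ∈ centralizer (Cfsg.pCore q (G ⧸ F) : Set (G ⧸ F)) := by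
    intro q r _ _ hr y hy d hd
    refine (commute_of_it (hcoreP q) ?_ (not_dvd_of_isPGroup (Ne.symm hr) hy) hd (hengel q d hd y)).eq
    rw [normalizer_eq_top]
    exact mem_top y
  -- every element of prime power order lies in the core
  have hcore : ∀ (p : ℕ) [Fact p.Prime], ∀ x : G ⧸ F, IsPGroup p (zpowers x) →
      x ∈ Cfsg.pCore p (G ⧸ F) := by
    intro p _ x hx
    let C : Subgroup (G ⧸ F) := ⨅ q : {q : ℕ // q.Prime ∧ q ≠ p}, centralizer (Cfsg.pCore q.1 (G ⧸ F) : Set (G ⧸ F))
    haveI : C.Normal := normal_iInf_normal fun q => inferInstance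
    refine mem_pCore_of_central C ?_ (mem_iInf.mpr fun q => ?_) hx
    · intro r _ hr y hy hyr c hc
      have hyF : y ∈ Cfsg.fittingSubgroup (G ⧸ F) := by
        refine Cfsg.Lib.Coprime.centralizer_fitting_le ?_
        have : Cfsg.fittingSubgroup (G ⧸ F) ≤ centralizer ({y} : Set (G ⧸ F)) := by
          refine le_of_prime_powers fun s _ z hz hzs => ?_
          have hzc := fitting_le_pCore hz hzs
          rw [mem_centralizer_singleton_iff]
          by_cases hsp : s = p
          · subst hsp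
            exact hcomm s r hr y hyr z hzc
          · exact mem_iInf.mp hy ⟨s, Fact.out, hsp⟩ z hzc
        intro z hz
        exact mem_centralizer_singleton_iff.mp (this hz)
      exact ((mem_iInf.mp hc ⟨r, Fact.out, hr⟩) y (fitting_le_pCore hyF hyr)).symm
    · haveI := Fact.mk q.2.1
      exact hcomm q.1 p (Ne.symm q.2.2) x hx
  refine ⟨?_, ?_⟩
  · refine ((Group.isNilpotent_of_finite_tfae (G := G ⧸ F)).out 0 3).mpr fun p hp P => ?_
    haveI := hp
    have he : (P : Subgroup (G ⧸ F)) = Cfsg.pCore p (G ⧸ F) :=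
      (P.3 (hcoreP p) fun y hy => hcore p y (P.2.to_le (zpowers_le.mpr hy))).symm
    rw [he]
    infer_instance
  · intro v hv q _ hvq
    refine h.mem_pCore_of_extension ((Cfsg.pCore q (G ⧸ F)).comap f)
      (fun r _ hr y hy hyr => hout q r hr y hy hyr) hv ?_ hvq
    refine hcore q _ ?_
    have := hvq.map f
    rwa [MonoidHom.map_zpowers] at this

/-- The criterion in a solvable group. -/
theorem Crit.lower_le_fitting [Group.IsSolvable G] (h : Crit G k) :
    (⊤ : Subgroup G).lowerCentralSeries k ≤ Cfsg.fittingSubgroup G := by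
  obtain ⟨hnil, hval⟩ := h.good.solvable_structure
  haveI := hnil
  set f := QuotientGroup.mk' (Cfsg.fittingSubgroup G)
  have hfs : Function.Surjective f := QuotientGroup.mk'_surjective _
  have hV : ∀ z ∈ V (G ⧸ Cfsg.fittingSubgroup G) k, z = 1 := by
    intro z hz
    by_contra hne
    obtain ⟨q, hq, hqd⟩ := Nat.exists_prime_and_dvd (fun e => hne (orderOf_eq_one_iff.mp e))
    haveI := Fact.mk hq
    obtain ⟨N, hN, hc, j, hj⟩ :=
      Cfsg.Lib.Transfer.hasNormalPComplement_iff.mp
        (Cfsg.Lib.Splitting.hasNormalPComplement_of_nilpotent (G := G ⧸ Cfsg.fittingSubgroup G) q)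
    haveI := hN
    refine (hq.coprime_iff_not_dvd.mp ((Cfsg.Lib.Transfer.mem_iff_coprime_orderOf hc hj z).mp ?_).symm) hqd
    set g := (QuotientGroup.mk' N).comp f
    have hgs : Function.Surjective g := (QuotientGroup.mk'_surjective N).comp hfs
    obtain ⟨Q⟩ : Nonempty (Sylow q G) := inferInstance
    have hsurj : Function.Surjective (g.comp (Q : Subgroup G).subtype) := by
      rw [← MonoidHom.range_eq_top, MonoidHom.range_comp, range_subtype]
      have hp' : IsPGroup q ((G ⧸ Cfsg.fittingSubgroup G) ⧸ N) :=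
        Cfsg.Lib.Transfer.isPGroup_quotient_of_index N hj
      exact ((Q.mapSurjective hgs).3 (hp'.to_subgroup ⊤) le_top).symm
    obtain ⟨u, hu, huz⟩ := lift_V _ hsurj (map_mem_V (QuotientGroup.mk' N) hz)
    have huV : (u : G) ∈ PV G k := ⟨⟨q, hq, zpowers_isPGroup Q.2 u.2⟩, map_mem_V (Q : Subgroup G).subtype hu⟩
    have := pCore_le_fitting q (hval _ huV q (zpowers_isPGroup Q.2 u.2))
    rw [← QuotientGroup.eq_one_iff]
    rw [← QuotientGroup.mk'_apply, ← huz]
    show QuotientGroup.mk' N (f (u : G)) = 1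
    rw [show f (u : G) = 1 from (QuotientGroup.eq_one_iff _).mpr this, map_one]
  have hbot : (⊤ : Subgroup (G ⧸ Cfsg.fittingSubgroup G)).lowerCentralSeries k = ⊥ := by
    refine le_bot_iff.mp ((lower_le_normalClosure k).trans (normalClosure_le_normal fun z hz => ?_))
    rw [SetLike.mem_coe, mem_bot]
    exact hV z hz
  rw [← QuotientGroup.ker_mk' (Cfsg.fittingSubgroup G), ← Subgroup.map_eq_bot_iff,
    Subgroup.map_lowerCentralSeries, map_top_of_surjective f hfs, hbot]

end Cfsg.Lib.CommValues
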